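import Groth.Agent.AlgGrp2.Basic
import Groth.Agent.GrpschAbsch.IdComp
import Groth.Agent.AlgGrp1.Geom
import Mathlib.AlgebraicGeometry.ResidueField
import Mathlib.FieldTheory.IsAlgClosed.AlgebraicClosure

/-!
Geometric fibres of group schemes with connected fibres; quasi-compactness.
-/

set_option autoImplicit false
universe u

open CategoryTheory CategoryTheory.Limits MonoidalCategory CartesianMonoidalCategory MonObj GrpObj
  AlgebraicGeometry

namespace Groth.GrpschSep

variable {S : Scheme.{u}} {G : Over S} [GrpObj G]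

/-- A geometric fibre of a group scheme with connected fibres is irreducible. -/
theorem irreducibleSpace_geomPoint {K : Type u} [Field K] [IsAlgClosed K]
    (t : Spec (CommRingCat.of K) ⟶ S)
    (hft : LocallyOfFiniteType (G.hom.fiberToSpecResidueField (t (IsLocalRing.closedPoint K))))
    (hc : ConnectedSpace ↥(G.hom.fiber (t (IsLocalRing.closedPoint K)))) :
    IrreducibleSpace (G ⊗ Over.mk t).left := by
  set s := t (IsLocalRing.closedPoint K)
  let F : Over (Spec (CommRingCat.of (S.residueField s))) :=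
    Over.mk (pullback.snd G.hom (S.fromSpecResidueField s))
  letI : GrpObj (Over.mk G.hom) := ‹GrpObj G›
  letI gF : GrpObj F := Over.grpObjMkPullbackSnd
  haveI : LocallyOfFiniteType F.hom := hft
  haveI : ConnectedSpace F.left := hc
  haveI : GeometricallyConnected F.hom :=
    Groth.AlgGrp1.geometricallyConnected_of_point F.hom η[F].left (Over.w η[F])
  let σ : Spec (CommRingCat.of K) ⟶ Spec (S.residueField s) :=
    Spec.map (Scheme.descResidueField (Scheme.stalkClosedPointTo t))
  have hσ : σ ≫ S.fromSpecResidueField s = t :=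
    Scheme.descResidueField_stalkClosedPointTo_fromSpecResidueField K S t
  let F' : Over (Spec (CommRingCat.of K)) := Over.mk (pullback.snd F.hom σ)
  letI : GrpObj (Over.mk F.hom) := gF
  letI gF' : GrpObj F' := Over.grpObjMkPullbackSnd
  haveI : LocallyOfFiniteType F'.hom := inferInstanceAs (LocallyOfFiniteType (pullback.snd _ _))
  haveI : ConnectedSpace F'.left := inferInstanceAs (ConnectedSpace ↥(pullback F.hom σ))
  have hirr : IrreducibleSpace F'.left := Groth.GrpschAbsch.irreducibleSpace_of_connected_lft F'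
  have sqG : IsPullback (pullback.fst F.hom σ ≫ pullback.fst G.hom _) F'.hom G.hom t :=
    (congrArg (fun r => IsPullback (pullback.fst F.hom σ ≫ pullback.fst G.hom _) F'.hom G.hom r) hσ).mp
      ((IsPullback.of_hasPullback F.hom σ).paste_horiz
        (IsPullback.of_hasPullback G.hom (S.fromSpecResidueField s)))
  exact ((sqG.isoIsPullback _ _ (Groth.AlgGrp2.isPullback_fst_snd G (Over.mk t))).hom.homeomorph).symm.irreducibleSpace_iff.mpr hirr

/-- A group scheme with connected fibres locally of finite type is quasi-compact. -/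
theorem quasiCompact_of_connected_fibres
    (hG : ∀ s : S, LocallyOfFiniteType (G.hom.fiberToSpecResidueField s))
    (hconn : ∀ s : S, ConnectedSpace ↥(G.hom.fiber s)) : QuasiCompact G.hom := by
  rw [quasiCompact_iff_forall_isAffineOpen]
  intro V hV
  have hec : IsCompact (η[G].left '' ((𝟙_ (Over S)).hom ⁻¹' (V : Set S))) :=
    (show IsCompact ((𝟙_ (Over S)).hom ⁻¹' (V : Set S)) from hV.isCompact).image η[G].left.continuous
  have hcov : η[G].left '' ((𝟙_ (Over S)).hom ⁻¹' (V : Set S)) ⊆
      ⋃ A : {A : G.left.Opens // IsAffineOpen A ∧ A ≤ G.hom ⁻¹ᵁ V}, (A.1 : Set G.left) := by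
    rintro _ ⟨p, hp, rfl⟩
    have hmem : η[G].left p ∈ G.hom ⁻¹ᵁ V := by
      show (η[G].left ≫ G.hom) p ∈ V
      rw [Over.w η[G]]; exact hp
    obtain ⟨_, ⟨A : G.left.Opens, hA, rfl⟩, hpA, hAV⟩ :=
      G.left.isBasis_affineOpens.exists_subset_of_mem_open hmem (G.hom ⁻¹ᵁ V).2
    exact Set.mem_iUnion.mpr ⟨⟨A, hA, hAV⟩, hpA⟩
  obtain ⟨F, hF⟩ := hec.elim_finite_subcover _ (fun A ↦ A.1.2) hcov
  let obj : G.left.Opens → Over S := fun A ↦ Over.mk (A.ι ≫ G.hom)
  let inc : ∀ A, obj A ⟶ G := fun A ↦ Over.homMk A.ι rfl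
  have heq : (G.hom ⁻¹ᵁ V : Set G.left) = ⋃ A ∈ F, ⋃ B ∈ F,
      Set.range (lift (fst (obj A.1) (obj B.1) ≫ inc A.1) (snd _ _ ≫ inc B.1) ≫ μ[G]).left := by
    refine Set.Subset.antisymm (fun g hg ↦ ?_) (fun g hg ↦ ?_)
    · let K := AlgebraicClosure (G.left.residueField g)
      let t₀ : Spec (CommRingCat.of K) ⟶ G.left :=
        Spec.map (CommRingCat.ofHom (algebraMap (G.left.residueField g) K)) ≫
          G.left.fromSpecResidueField g
      let T : Over S := Over.mk (t₀ ≫ G.hom)
      let gT : T ⟶ G := Over.homMk t₀ rfl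
      let pt : Spec (CommRingCat.of K) := IsLocalRing.closedPoint K
      haveI hirr : IrreducibleSpace (G ⊗ T).left :=
        irreducibleSpace_geomPoint (t₀ ≫ G.hom) (hG _) (hconn _)
      have hsV : T.hom pt ∈ V := by
        show G.hom (t₀ pt) ∈ V
        rw [show t₀ pt = g from Scheme.fromSpecResidueField_apply g _]
        exact hg
      obtain ⟨A, hAF, hA⟩ : ∃ A ∈ F, (1 : T ⟶ G).left pt ∈ A.1 := by
        have := hF ⟨(toUnit T).left pt, show ((toUnit T).left ≫ (𝟙_ (Over S)).hom) pt ∈ V by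
          rw [Over.w (toUnit T)]; exact hsV, rfl⟩
        obtain ⟨A, hAF, hA⟩ := Set.mem_iUnion₂.mp this
        exact ⟨A, hAF, hA⟩
      let b : G ⊗ T ⟶ G := (fst G T)⁻¹ * (snd G T ≫ gT)
      obtain ⟨w, hwa, hwb⟩ := nonempty_preirreducible_inter (X := (G ⊗ T).left)
        (A.1.2.preimage (fst G T).left.continuous) (A.1.2.preimage b.left.continuous)
        ⟨(lift (1 : T ⟶ G) (𝟙 T)).left pt, by
          show (fst G T).left _ ∈ A.1
          rw [← Scheme.Hom.comp_apply, ← Over.comp_left, lift_fst]; exact hA⟩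
        ⟨(lift gT (𝟙 T)).left pt, by
          show b.left _ ∈ A.1
          rw [← Scheme.Hom.comp_apply, ← Over.comp_left,
            show lift gT (𝟙 T) ≫ b = 1 by simp [b, MonObj.comp_mul, GrpObj.comp_inv]]
          exact hA⟩
      -- the point of the product
      let j : Over.mk ((G ⊗ T).left.fromSpecResidueField w ≫ (G ⊗ T).hom) ⟶ G ⊗ T :=
        Over.homMk ((G ⊗ T).left.fromSpecResidueField w) rfl
      have hfac : ∀ (m : G ⊗ T ⟶ G), m.left w ∈ A.1 →
          ∃ m' : Over.mk ((G ⊗ T).left.fromSpecResidueField w ≫ (G ⊗ T).hom) ⟶ obj A.1,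
            m' ≫ inc A.1 = j ≫ m := by
        intro m hm
        have hr : Set.range (j ≫ m).left ⊆ Set.range A.1.ι := by
          rintro _ ⟨q, rfl⟩
          rw [Scheme.Opens.range_ι]
          show m.left (j.left q) ∈ A.1
          rw [show j.left q = w from Scheme.fromSpecResidueField_apply w q]
          exact hm
        refine ⟨Over.homMk (IsOpenImmersion.lift A.1.ι (j ≫ m).left hr) ?_,
          Over.OverMorphism.ext (IsOpenImmersion.lift_fac _ _ _)⟩
        show _ ≫ A.1.ι ≫ G.hom = _
        rw [IsOpenImmersion.lift_fac_assoc, Over.w (j ≫ m)]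
      obtain ⟨a', ha'⟩ := hfac _ hwa
      obtain ⟨b', hb'⟩ := hfac _ hwb
      refine Set.mem_biUnion hAF (Set.mem_biUnion hAF
        ⟨(lift a' b').left (IsLocalRing.closedPoint _), ?_⟩)
      rw [← Scheme.Hom.comp_apply, ← Over.comp_left]
      have e : lift a' b' ≫ lift (fst (obj A.1) (obj A.1) ≫ inc A.1) (snd _ _ ≫ inc A.1) ≫ μ[G] =
          j ≫ snd G T ≫ gT := by
        rw [← Category.assoc, comp_lift, lift_fst_assoc, lift_snd_assoc, ha', hb', ← comp_lift]
        rw [Category.assoc, show lift (fst G T) b ≫ μ[G] = fst G T * b from rfl]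
        simp [b]
      rw [e]
      exact Scheme.fromSpecResidueField_apply g _
    · simp only [Set.mem_iUnion] at hg
      obtain ⟨A, -, B, -, z, rfl⟩ := hg
      show G.hom _ ∈ V
      rw [← Scheme.Hom.comp_apply, Over.w, ← Over.w (fst (obj A.1) (obj B.1)), Scheme.Hom.comp_apply]
      exact A.2.2 ((fst (obj A.1) (obj B.1)).left z).2
  rw [heq]
  refine F.finite_toSet.isCompact_biUnion fun A _ ↦ F.finite_toSet.isCompact_biUnion fun B _ ↦ ?_
  haveI : CompactSpace (obj A.1 ⊗ obj B.1).left := by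
    haveI : IsAffine A.1.toScheme := A.2.1
    haveI : IsAffine B.1.toScheme := B.2.1
    haveI : IsAffine V.toScheme := hV
    let eA : A.1.toScheme ⟶ V.toScheme := G.hom.resLE V A.1 A.2.2
    let eB : B.1.toScheme ⟶ V.toScheme := G.hom.resLE V B.1 B.2.2
    have hA : eA ≫ V.ι = A.1.ι ≫ G.hom := Scheme.Hom.resLE_comp_ι _ _
    have hB : eB ≫ V.ι = B.1.ι ≫ G.hom := Scheme.Hom.resLE_comp_ι _ _
    let i : pullback eA eB ≅ pullback (A.1.ι ≫ G.hom) (B.1.ι ≫ G.hom) :=
      (IsPullback.of_isLimit (pullbackIsPullbackOfCompMono eA eB V.ι)).isoPullback ≪≫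
        pullback.congrHom hA hB
    exact i.hom.homeomorph.compactSpace
  exact isCompact_range (Scheme.Hom.continuous _)

end Groth.GrpschSep
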