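import Mathlib.AlgebraicGeometry.Morphisms.UniversallyOpen
import Mathlib.AlgebraicGeometry.Morphisms.Flat
import Mathlib.AlgebraicGeometry.PullbackCarrier
import Mathlib.AlgebraicGeometry.ResidueField
import Groth.Agent.RaynaudGruson.IrreducibleFibresScheme
import Groth.Agent.VarietyBC.TensorAlgClosed

/-!
Maximal points of schemes.
-/

set_option autoImplicit false
universe u

open CategoryTheory CategoryTheory.Limits AlgebraicGeometry

namespace Groth.GrpschSep

/-- A point without proper generalisations. -/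
def IsMaxPt {α : Type u} [TopologicalSpace α] (x : α) : Prop := ∀ y, y ⤳ x → y = x

/-- Every point has at most one maximal generalisation. -/
def UniqueMax (α : Type u) [TopologicalSpace α] : Prop :=
  ∀ p a b : α, IsMaxPt a → IsMaxPt b → a ⤳ p → b ⤳ p → a = b

theorem exists_isMaxPt {X : Scheme.{u}} (x : X) : ∃ m : X, m ⤳ x ∧ IsMaxPt m := by
  have hC := irreducibleComponent_mem_irreducibleComponents x
  obtain ⟨m, hm⟩ := QuasiSober.sober hC.1 (isClosed_of_mem_irreducibleComponents _ hC)
  refine ⟨m, specializes_iff_mem_closure.mpr (hm.def.ge mem_irreducibleComponent), fun y hy ↦ ?_⟩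
  have h1 : irreducibleComponent x ⊆ closure {y} := hm.def.ge.trans
    (closure_minimal (Set.singleton_subset_iff.mpr (specializes_iff_mem_closure.mp hy)) isClosed_closure)
  have h2 : closure {y} ⊆ irreducibleComponent x := hC.2 isIrreducible_singleton.closure h1
  exact ((specializes_iff_mem_closure.mpr (hm.def.ge (h2 (subset_closure rfl)))).antisymm hy).eq.symm

variable {X Y : Scheme.{u}}

theorem IsMaxPt.map_flat (f : X ⟶ Y) [Flat f] {x : X} (h : IsMaxPt x) : IsMaxPt (f x) := by
  intro y hy
  obtain ⟨x', hx', rfl⟩ := Flat.generalizingMap f hy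
  rw [h x' hx']

theorem IsMaxPt.map_iso (e : X ≅ Y) {x : X} (h : IsMaxPt x) : IsMaxPt (e.hom x) :=
  h.map_flat e.hom

/-- Uniqueness of maximal generalisations descends along flat surjective morphisms. -/
theorem UniqueMax.descend (f : X ⟶ Y) [Flat f] [Surjective f] (h : UniqueMax X) : UniqueMax Y := by
  intro y a b ha hb hay hby
  obtain ⟨p, rfl⟩ := f.surjective y
  obtain ⟨a', ha', rfl⟩ := Flat.generalizingMap f hay
  obtain ⟨b', hb', rfl⟩ := Flat.generalizingMap f hby
  obtain ⟨a'', ha'', hma⟩ := exists_isMaxPt a'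
  obtain ⟨b'', hb'', hmb⟩ := exists_isMaxPt b'
  have e := h p a'' b'' hma hmb (ha''.trans ha') (hb''.trans hb')
  have e1 := ha (f a'') (ha''.map f.continuous)
  have e2 := hb (f b'') (hb''.map f.continuous)
  rw [← e1, ← e2, e]

/-- Two maximal points in an irreducible subset of the form `range` agree. -/
theorem IsMaxPt.eq_of_range {W : Scheme.{u}} [IrreducibleSpace W] (g : W ⟶ X) {a b : X}
    (ha : IsMaxPt a) (hb : IsMaxPt b) (ha' : a ∈ Set.range g) (hb' : b ∈ Set.range g) : a = b := by
  obtain ⟨a', rfl⟩ := ha'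
  obtain ⟨b', rfl⟩ := hb'
  have key : ∀ w, g (genericPoint W) ⤳ g w := fun w ↦ (genericPoint_specializes w).map g.continuous
  rw [← ha _ (key a'), ← hb _ (key b')]

/-- Over an algebraically closed field, products of spectra of fields are irreducible. -/
theorem irreducibleSpace_pullback_fields {K L M : Type u} [Field K] [IsAlgClosed K] [Field L]
    [Field M] (f : Spec (CommRingCat.of L) ⟶ Spec (CommRingCat.of K))
    (g : Spec (CommRingCat.of M) ⟶ Spec (CommRingCat.of K)) :
    IrreducibleSpace ↥(pullback f g) := by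
  obtain ⟨φ, rfl⟩ := Spec.map_surjective f
  obtain ⟨ψ, rfl⟩ := Spec.map_surjective g
  letI := φ.hom.toAlgebra
  letI := ψ.hom.toAlgebra
  haveI : IsDomain (TensorProduct K M L) := Groth.VarietyBC.isDomain_tensor
  have h := (Groth.RaynaudGruson.irreducibleSpace_pullback_spec (R := K) (K := M) (S := L)
    (𝟙 (Spec (CommRingCat.of K)))).mpr (by
      rw [nilradical_eq_zero]; exact Ideal.isPrime_bot)
  exact ((pullback.congrHom (show _ ≫ 𝟙 _ = Spec.map φ from Category.comp_id _)
    (show _ ≫ 𝟙 _ = Spec.map ψ from Category.comp_id _)).hom.homeomorph.irreducibleSpace_iff).mp h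

/-- Maximal points in a common fibre over points of two factors agree. -/
theorem IsMaxPt.eq_of_pullback {K : Type u} [Field K] [IsAlgClosed K] {P A B : Scheme.{u}}
    {π₁ : P ⟶ A} {π₂ : P ⟶ B} {f : A ⟶ Spec (CommRingCat.of K)} {g : B ⟶ Spec (CommRingCat.of K)}
    (sq : IsPullback π₁ π₂ f g) {u v : P} (hu : IsMaxPt u) (hv : IsMaxPt v)
    (h1 : π₁ u = π₁ v) (h2 : π₂ u = π₂ v) : u = v := by
  let W := pullback (A.fromSpecResidueField (π₁ u) ≫ f) (B.fromSpecResidueField (π₂ u) ≫ g)
  haveI : IrreducibleSpace W := irreducibleSpace_pullback_fields _ _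
  let m : W ⟶ pullback f g := pullback.map _ _ f g (A.fromSpecResidueField (π₁ u))
    (B.fromSpecResidueField (π₂ u)) (𝟙 _) (by simp) (by simp)
  have hmem : ∀ w : P, π₁ w = π₁ u → π₂ w = π₂ u → w ∈ Set.range (m ≫ sq.isoPullback.inv) := by
    intro w e1 e2
    have : sq.isoPullback.hom w ∈ Set.range m := by
      rw [Scheme.Pullback.range_map]
      constructor
      · rw [Set.mem_preimage, ← Scheme.Hom.comp_apply, sq.isoPullback_hom_fst, e1,
          Scheme.range_fromSpecResidueField]
        rfl
      · rw [Set.mem_preimage, ← Scheme.Hom.comp_apply, sq.isoPullback_hom_snd, e2,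
          Scheme.range_fromSpecResidueField]
        rfl
    obtain ⟨z, hz⟩ := this
    refine ⟨z, ?_⟩
    rw [Scheme.Hom.comp_apply, hz, ← Scheme.Hom.comp_apply, Iso.hom_inv_id]
    rfl
  exact hu.eq_of_range _ hv (hmem u rfl rfl) (hmem v h1.symm h2.symm)

end Groth.GrpschSep
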