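import Groth.Agent.GrpschSep.AnyType

/-!
Maximal points of group schemes and transitive actions over a field, without finiteness hypotheses.
-/

set_option autoImplicit false
universe u

open CategoryTheory CategoryTheory.Limits MonoidalCategory CartesianMonoidalCategory MonObj GrpObj
  AlgebraicGeometry

namespace Groth.GrpschSep

theorem IsMaxPt.closure_mem_irreducibleComponents {α : Type u} [TopologicalSpace α] [QuasiSober α] [T0Space α]
    {m : α} (hm : IsMaxPt m) :
    closure {m} ∈ irreducibleComponents α := by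
  refine ⟨isIrreducible_singleton.closure, fun Z hZ hmZ ↦ ?_⟩
  obtain ⟨z, hz⟩ := QuasiSober.sober hZ.closure isClosed_closure
  have : z = m := hm z (specializes_iff_mem_closure.mpr (hz.def.ge (subset_closure (hmZ (subset_closure rfl)))))
  exact subset_closure.trans (this ▸ hz.def.ge)

theorem exists_maxPt_of_irreducibleComponent {α : Type u} [TopologicalSpace α] [QuasiSober α] [T0Space α]
    {C : Set α} (hC : C ∈ irreducibleComponents α) : ∃ m, IsMaxPt m ∧ closure {m} = C := by
  obtain ⟨m, hm⟩ := QuasiSober.sober hC.1 (isClosed_of_mem_irreducibleComponents _ hC)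
  refine ⟨m, fun y hy ↦ ?_, hm.def⟩
  have h2 : closure {y} ⊆ C := hC.2 isIrreducible_singleton.closure
    (hm.def.ge.trans (closure_minimal (Set.singleton_subset_iff.mpr
      (specializes_iff_mem_closure.mp hy)) isClosed_closure))
  exact ((specializes_iff_mem_closure.mpr (hm.def.ge (h2 (subset_closure rfl)))).antisymm hy).eq.symm

variable {k : Type u} [Field k] {G X : Over (Spec (CommRingCat.of k))}

instance flat_fst_field (Y : Over (Spec (CommRingCat.of k))) (T : Over (Spec (CommRingCat.of k))) :
    Flat (fst Y T).left :=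
  haveI : Flat T.hom := inferInstance
  MorphismProperty.of_isPullback (P := @Flat) (Groth.AlgGrp2.isPullback_fst_snd Y T).flip this

/-- The algebraic closure of the base field as a scheme over it. -/
noncomputable abbrev closureBase (k : Type u) [Field k] :
    Spec (CommRingCat.of (AlgebraicClosure k)) ⟶ Spec (CommRingCat.of k) :=
  Spec.map (CommRingCat.ofHom (algebraMap k (AlgebraicClosure k)))

/-- Geometric points factor through the algebraic closure of the base field. -/
theorem nonempty_closure_hom {K : Type u} [Field K] [IsAlgClosed K]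
    (t : Spec (CommRingCat.of K) ⟶ Spec (CommRingCat.of k)) :
    Nonempty (Over.mk t ⟶ Over.mk (closureBase k)) := by
  obtain ⟨φ, rfl⟩ := Spec.map_surjective t
  letI := φ.hom.toAlgebra
  let l : AlgebraicClosure k →ₐ[k] K := IsAlgClosed.lift
  refine ⟨Over.homMk (Spec.map (CommRingCat.ofHom l.toRingHom)) ?_⟩
  show Spec.map _ ≫ Spec.map _ = Spec.map φ
  rw [← Spec.map_comp, ← CommRingCat.ofHom_comp, AlgHom.toRingHom_eq_coe, AlgHom.comp_algebraMap]
  rfl

/-- Over an algebraically closed base change, maximal points are determined by their image. -/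
theorem eq_of_map_closure {K : Type u} [Field K] (Y : Over (Spec (CommRingCat.of k)))
    {t : Spec (CommRingCat.of K) ⟶ Spec (CommRingCat.of k)}
    (σ : Over.mk t ⟶ Over.mk (closureBase k)) {u v : (Y ⊗ Over.mk t).left} (hu : IsMaxPt u)
    (hv : IsMaxPt v) (h : (Y ◁ σ).left u = (Y ◁ σ).left v) : u = v :=
  IsMaxPt.eq_of_pullback (Groth.AlgGrp2.isPullback_whiskerLeft_snd Y σ) hu hv
    (K := AlgebraicClosure k) (f := (snd Y (Over.mk (closureBase k))).left) (g := σ.left) h
    (Subsingleton.elim (α := ↥(Spec (CommRingCat.of K))) _ _)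

instance flat_whisker_closure {K : Type u} [Field K] (Y : Over (Spec (CommRingCat.of k)))
    {t : Spec (CommRingCat.of K) ⟶ Spec (CommRingCat.of k)}
    (σ : Over.mk t ⟶ Over.mk (closureBase k)) : Flat (Y ◁ σ).left := by
  haveI : Subsingleton ↥(Over.mk (closureBase k)).left :=
    inferInstanceAs (Subsingleton ↥(Spec (CommRingCat.of (AlgebraicClosure k))))
  haveI : IsIntegral (Over.mk (closureBase k)).left :=
    inferInstanceAs (IsIntegral (Spec (CommRingCat.of (AlgebraicClosure k))))
  haveI : Flat σ.left := inferInstance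
  exact MorphismProperty.of_isPullback (P := @Flat) (Groth.AlgGrp2.isPullback_whiskerLeft_snd Y σ).flip this

variable [GrpObj G]

/-- A point of a geometric group over the unit of a group over a field generalises to the unit. -/
theorem specializes_unitPt {K : Type u} [Field K] [IsAlgClosed K]
    {t : Spec (CommRingCat.of K) ⟶ Spec (CommRingCat.of k)} {m : (G ⊗ Over.mk t).left} (hm : IsMaxPt m)
    (p : ↥(𝟙_ (Over (Spec (CommRingCat.of k)))).left)
    (he : (fst G (Over.mk t)).left m ⤳ η[G].left p) : m ⤳ unitPt G t := by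
  obtain ⟨σ⟩ := nonempty_closure_hom t
  let T0 : Over (Spec (CommRingCat.of k)) := Over.mk (closureBase k)
  let b := (G ◁ σ).left m
  have hb : IsMaxPt b := hm.map_flat _
  haveI : IsIntegralHom (fst G T0).left := by
    refine MorphismProperty.of_isPullback (P := (@IsIntegralHom : MorphismProperty Scheme.{u}))
      (Groth.AlgGrp2.isPullback_fst_snd G T0).flip ?_
    show IsIntegralHom (Spec.map _)
    rw [IsIntegralHom.SpecMap_iff]
    exact fun x => (Algebra.IsAlgebraic.isAlgebraic x).isIntegral
  have hfb : (fst G T0).left b = (fst G (Over.mk t)).left m := by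
    rw [← Scheme.Hom.comp_apply, ← Over.comp_left, whiskerLeft_fst]
  have hcl : η[G].left p ∈ (fst G T0).left '' closure {b} :=
    closure_minimal (s := {(fst G (Over.mk t)).left m}) (t := (fst G T0).left '' closure {b})
      (Set.singleton_subset_iff.mpr ⟨b, subset_closure rfl, hfb⟩)
      ((fst G T0).left.isClosedMap _ isClosed_closure) (specializes_iff_mem_closure.mp he)
  obtain ⟨z, hzb, hz⟩ := hcl
  have hz0 : z = unitPt G (closureBase k) := by
    have hmem : z ∈ Set.range (pullback.fst (fst G T0).left η[G].left) := by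
      rw [Scheme.Pullback.range_fst]
      exact ⟨p, hz.symm⟩
    obtain ⟨w, rfl⟩ := hmem
    let R : Over (Spec (CommRingCat.of k)) :=
      Over.mk (pullback.fst (fst G T0).left η[G].left ≫ (G ⊗ T0).hom)
    let j : R ⟶ G ⊗ T0 := Over.homMk (pullback.fst (fst G T0).left η[G].left) rfl
    let q : R ⟶ 𝟙_ (Over (Spec (CommRingCat.of k))) :=
      Over.homMk (pullback.snd (fst G T0).left η[G].left) (by
        show _ ≫ (𝟙_ (Over (Spec (CommRingCat.of k)))).hom = _ ≫ (G ⊗ T0).hom
        rw [← Over.w η[G], ← Category.assoc, ← pullback.condition, Category.assoc,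
          Over.w (fst G T0)])
    have hj : j ≫ fst G T0 = q ≫ η[G] := Over.OverMorphism.ext pullback.condition
    have he : j = (j ≫ snd G T0) ≫ lift (1 : T0 ⟶ G) (𝟙 _) := by
      apply CartesianMonoidalCategory.hom_ext
      · simp only [Category.assoc, lift_fst, hj, MonObj.comp_one]
        rw [Hom.one_def]
        exact congrArg (· ≫ η[G]) (toUnit_unique _ _)
      · simp
    show j.left w = _
    rw [he, Over.comp_left, Scheme.Hom.comp_apply]
    exact congrArg (lift (1 : T0 ⟶ G) (𝟙 T0)).left
      (Subsingleton.elim (α := ↥(Spec (CommRingCat.of (AlgebraicClosure k)))) _ _)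
  have hbe : b ⤳ unitPt G (closureBase k) := hz0 ▸ specializes_iff_mem_closure.mpr hzb
  obtain ⟨m', hm'e, hm'⟩ := exists_isMaxPt (unitPt G t)
  have hm'b : (G ◁ σ).left m' ⤳ unitPt G (closureBase k) := by
    refine (hm'e.map (G ◁ σ).left.continuous).trans (specializes_of_eq ?_)
    have h : lift (1 : Over.mk t ⟶ G) (𝟙 _) ≫ (G ◁ σ) = σ ≫ lift (1 : T0 ⟶ G) (𝟙 _) := by
      apply CartesianMonoidalCategory.hom_ext <;> simp [T0]
    rw [← Scheme.Hom.comp_apply, ← Over.comp_left, h, Over.comp_left, Scheme.Hom.comp_apply]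
    exact congrArg (lift (1 : T0 ⟶ G) (𝟙 T0)).left
      (Subsingleton.elim (α := ↥(Spec (CommRingCat.of (AlgebraicClosure k)))) _ _)
  rw [eq_of_map_closure G σ hm hm' (eq_of_specializes_unit hb (hm'.map_flat _) hbe hm'b)]
  exact hm'e

/-- Each point of a group scheme over a field has one maximal generalisation. -/
theorem uniqueMax_grp : UniqueMax G.left := by
  haveI : Surjective (fst G (Over.mk (closureBase k))).left :=
    MorphismProperty.of_isPullback (P := @Surjective)
      (Groth.AlgGrp2.isPullback_fst_snd G (Over.mk (closureBase k))).flip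
      (⟨fun x => ⟨IsLocalRing.closedPoint (AlgebraicClosure k), Subsingleton.elim _ _⟩⟩ :
        Surjective (closureBase k))
  exact uniqueMax_group'.descend (fst G (Over.mk (closureBase k))).left

variable (a : AlgGrp.Action G X) (hΦ : Surjective (lift a.act (snd G X)).left)

include hΦ in
/-- Each point of a scheme over a field with a transitive action has one maximal generalisation. -/
theorem uniqueMax_action : UniqueMax X.left := by
  rcases isEmpty_or_nonempty X.left with hX | ⟨⟨x₀⟩⟩
  · exact fun p => isEmptyElim p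
  let T0 : Over (Spec (CommRingCat.of k)) := Over.mk (closureBase k)
  haveI : Surjective (fst X T0).left :=
    MorphismProperty.of_isPullback (P := @Surjective) (Groth.AlgGrp2.isPullback_fst_snd X T0).flip
      (⟨fun x => ⟨IsLocalRing.closedPoint (AlgebraicClosure k), Subsingleton.elim _ _⟩⟩ :
        Surjective T0.hom)
  obtain ⟨y₀, -⟩ := (fst X T0).left.surjective x₀
  obtain ⟨b, -, hb⟩ := exists_isMaxPt y₀
  let K := AlgebraicClosure ((X ⊗ T0).left.residueField b)
  let P : Spec (CommRingCat.of K) ⟶ (X ⊗ T0).left :=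
    Spec.map (CommRingCat.ofHom (algebraMap ((X ⊗ T0).left.residueField b) K)) ≫
      (X ⊗ T0).left.fromSpecResidueField b
  let t : Spec (CommRingCat.of K) ⟶ Spec (CommRingCat.of k) := P ≫ (X ⊗ T0).hom
  let Pt : Over.mk t ⟶ X ⊗ T0 := Over.homMk P rfl
  let x : Over.mk t ⟶ X := Pt ≫ fst _ _
  let σ : Over.mk t ⟶ T0 := Pt ≫ snd _ _
  have hx : (X ◁ σ).left ((lift x (𝟙 (Over.mk t))).left (IsLocalRing.closedPoint K)) = b := by
    have h : lift x (𝟙 (Over.mk t)) ≫ (X ◁ σ) = Pt := by
      apply CartesianMonoidalCategory.hom_ext <;> simp [x, σ]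
    rw [← Scheme.Hom.comp_apply, ← Over.comp_left, h]
    exact Scheme.fromSpecResidueField_apply b _
  have hb' : ∀ w, IsMaxPt w → w ⤳ (lift x (𝟙 (Over.mk t))).left (IsLocalRing.closedPoint K) →
      (X ◁ σ).left w = b := fun w hw hwx =>
    hb _ ((hwx.map (X ◁ σ).left.continuous).trans (specializes_of_eq hx))
  have hX : UniqueMax (X ⊗ Over.mk t).left := by
    intro p u v hu hv hup hvp
    set o := orb a x with ho
    haveI : Surjective o.left := MorphismProperty.of_isPullback (isPullback_orb a x) hΦ
    obtain ⟨c, hc⟩ := o.left.surjective p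
    let ι₀ : G ⊗ Over.mk t ⟶ G ⊗ (X ⊗ Over.mk t) := lift (fst _ _) (lift (snd _ _ ≫ x) (snd _ _))
    have h1 : ι₀ ≫ (G ◁ snd X (Over.mk t)) = 𝟙 _ := by
      apply CartesianMonoidalCategory.hom_ext <;> simp [ι₀]
    have h2 : ι₀ ≫ snd G (X ⊗ Over.mk t) = snd G (Over.mk t) ≫ lift x (𝟙 _) := by
      apply CartesianMonoidalCategory.hom_ext <;> simp [ι₀]
    have h3 : ι₀ ≫ actT a (Over.mk t) = o := by
      apply CartesianMonoidalCategory.hom_ext
      · simp only [ι₀, ho, orb, actT, Category.assoc, lift_fst]
        rw [← Category.assoc, comp_lift, lift_fst, lift_snd_assoc, lift_fst]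
      · simp [ι₀, ho, orb, actT]
    let w₀ := ι₀.left c
    obtain ⟨e, he⟩ := exists_iso_actT a (Over.mk t)
    haveI : Flat (actT a (Over.mk t)).left := by
      rw [← he, Over.comp_left]; infer_instance
    have hact : (actT a (Over.mk t)).left w₀ = p := by
      rw [← hc, ← h3]; rfl
    have lifts : ∀ {n}, IsMaxPt n → n ⤳ p → ∃ w, IsMaxPt w ∧ w ⤳ w₀ ∧
        (actT a (Over.mk t)).left w = n := by
      intro n hn hnp
      obtain ⟨w', hw', rfl⟩ := Flat.generalizingMap (actT a (Over.mk t)).left (hact.symm ▸ hnp :)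
      obtain ⟨w, hw, hwm⟩ := exists_isMaxPt w'
      exact ⟨w, hwm, hw.trans hw', hn _ (hw.map (actT a (Over.mk t)).left.continuous)⟩
    obtain ⟨w, hw, hw₀, rfl⟩ := lifts hu hup
    obtain ⟨w', hw', hw₀', rfl⟩ := lifts hv hvp
    congr 1
    refine IsMaxPt.eq_of_pullback (isPullback_projections G X (Over.mk t)) hw hw'
      (f := (snd G (Over.mk t)).left) (g := (snd X (Over.mk t)).left) ?_ ?_
    · exact uniqueMax_group' c _ _ (hw.map_flat _) (hw'.map_flat _)
        ((hw₀.map (G ◁ snd X (Over.mk t)).left.continuous).trans (specializes_of_eq (congr(($h1).left.base c))))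
        ((hw₀'.map (G ◁ snd X (Over.mk t)).left.continuous).trans (specializes_of_eq (congr(($h1).left.base c))))
    · have e2 : (snd G (X ⊗ Over.mk t)).left w₀ =
          (lift x (𝟙 (Over.mk t))).left (IsLocalRing.closedPoint K) :=
        (congr(($h2).left.base c)).trans (congrArg (lift x (𝟙 (Over.mk t))).left
          (Subsingleton.elim (α := ↥(Spec (CommRingCat.of K))) _ _))
      refine eq_of_map_closure X σ (hw.map_flat _) (hw'.map_flat _) ?_
      rw [hb' _ (hw.map_flat _) ((hw₀.map (snd G (X ⊗ Over.mk t)).left.continuous).trans (specializes_of_eq e2)),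
        hb' _ (hw'.map_flat _) ((hw₀'.map (snd G (X ⊗ Over.mk t)).left.continuous).trans (specializes_of_eq e2))]
  haveI : Surjective (fst X (Over.mk t)).left :=
    MorphismProperty.of_isPullback (P := @Surjective) (Groth.AlgGrp2.isPullback_fst_snd X (Over.mk t)).flip
      (⟨fun x => ⟨IsLocalRing.closedPoint K, Subsingleton.elim _ _⟩⟩ : Surjective t)
  exact hX.descend (fst X (Over.mk t)).left

include hΦ in
/-- A maximal point generalising the unit moves a point to the maximal point generalising it. -/
theorem orb_unit_specializes {K : Type u} [Field K] [IsAlgClosed K]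
    {t : Spec (CommRingCat.of K) ⟶ Spec (CommRingCat.of k)} (x : Over.mk t ⟶ X)
    {m : (G ⊗ Over.mk t).left} (hm : IsMaxPt m) (hme : m ⤳ unitPt G t) :
    IsMaxPt ((fst X (Over.mk t)).left ((orb a x).left m)) ∧
      (fst X (Over.mk t)).left ((orb a x).left m) ⤳ x.left (IsLocalRing.closedPoint K) := by
  refine ⟨(isMaxPt_orb' a hΦ x hm).map_flat _, ?_⟩
  have h : lift (1 : Over.mk t ⟶ G) (𝟙 _) ≫ orb a x ≫ fst X (Over.mk t) = x := by
    simp only [orb, lift_fst]
    rw [← Category.assoc, comp_lift, lift_fst, lift_snd_assoc, Category.id_comp,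
      Groth.AlgGrp2.lift_one_act]
  refine (((hme.map (orb a x).left.continuous).map (fst X (Over.mk t)).left.continuous)).trans
    (specializes_of_eq ?_)
  exact congr(($h).left.base (IsLocalRing.closedPoint K))

/-- A geometric point at a point of a scheme over a field. -/
theorem exists_geomPoint (Y : Over (Spec (CommRingCat.of k))) (y : Y.left) :
    ∃ (K : Type u) (_ : Field K) (_ : IsAlgClosed K) (t : Spec (CommRingCat.of K) ⟶ Spec (CommRingCat.of k))
      (P : Over.mk t ⟶ Y), P.left (IsLocalRing.closedPoint K) = y :=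
  ⟨AlgebraicClosure (Y.left.residueField y), inferInstance, inferInstance,
    (Spec.map (CommRingCat.ofHom (algebraMap (Y.left.residueField y) _)) ≫
      Y.left.fromSpecResidueField y) ≫ Y.hom,
    Over.homMk _ rfl, Scheme.fromSpecResidueField_apply y _⟩

end Groth.GrpschSep
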