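import Groth.Agent.AlgGrp2.Basic
import Groth.Agent.GrpschAbsch.Basic
import Groth.Prelude.Def_AlgGrp
import Mathlib.AlgebraicGeometry.AlgClosed.Basic
import Mathlib.AlgebraicGeometry.Morphisms.UniversallyOpen
import Mathlib.AlgebraicGeometry.Noetherian

/-!
For a transitive action, the points of the group moving a point into a dense open are dense.
-/

set_option autoImplicit false
universe u

open CategoryTheory CategoryTheory.Limits MonoidalCategory CartesianMonoidalCategory MonObj GrpObj
  AlgebraicGeometry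

namespace Groth.GrpschSep

/-- A maximal point of a locally Noetherian scheme lies in every dense open. -/
theorem mem_of_isMax {X : Scheme.{u}} [IsLocallyNoetherian X] {U : Set X} (hU : IsOpen U)
    (hd : Dense U) {eta : X} (heta : ∀ y, y ⤳ eta → y = eta) : eta ∈ U := by
  obtain ⟨_, ⟨V : X.Opens, hV, rfl⟩, hetaV, -⟩ :=
    X.isBasis_affineOpens.exists_subset_of_mem_open (Set.mem_univ eta) isOpen_univ
  haveI : IsNoetherianRing Γ(X, V) := IsLocallyNoetherian.component_noetherian ⟨V, hV⟩
  haveI : TopologicalSpace.NoetherianSpace V.toScheme := noetherianSpace_of_isAffineOpen V hV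
  let eta' : V.toScheme := ⟨eta, hetaV⟩
  have heta' : ∀ y, y ⤳ eta' → y = eta' := fun y hy ↦ Subtype.ext (heta _ (hy.map continuous_subtype_val))
  have hmem : ∀ C ∈ irreducibleComponents V.toScheme, eta' ∈ C → C = closure {eta'} := fun C hC hm ↦ by
    have hCc := isClosed_of_mem_irreducibleComponents C hC
    obtain ⟨xi, hxi⟩ := QuasiSober.sober hC.1 hCc
    rw [heta' xi (specializes_iff_mem_closure.mpr (hxi.def.ge hm))] at hxi
    exact hxi.def.symm
  let F : Set (Set V.toScheme) := irreducibleComponents V.toScheme \ {closure {eta'}}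
  have hFc : IsClosed (⋃ C ∈ F, C) :=
    (TopologicalSpace.NoetherianSpace.finite_irreducibleComponents.subset Set.sdiff_subset).isClosed_biUnion
      fun C hC ↦ isClosed_of_mem_irreducibleComponents C hC.1
  have hetaO : eta' ∈ (⋃ C ∈ F, C)ᶜ := by
    simp only [Set.mem_compl_iff, Set.mem_iUnion, not_exists]
    exact fun C hC hm ↦ hC.2 (hmem C hC.1 hm)
  obtain ⟨u, hu, hu'⟩ := (hd.preimage V.ι.isOpenEmbedding.isOpenMap).inter_open_nonempty _
    hFc.isOpen_compl ⟨eta', hetaO⟩
  have hucl : u ∈ closure {eta'} := by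
    by_contra h
    refine hu (Set.mem_biUnion (x := irreducibleComponent u)
      ⟨irreducibleComponent_mem_irreducibleComponents u, fun e ↦ h ?_⟩ mem_irreducibleComponent)
    rw [← Set.mem_singleton_iff.mp e]
    exact mem_irreducibleComponent
  exact (specializes_iff_mem_closure.mpr hucl).mem_open (hU.preimage V.ι.continuous) hu'

/-- Every point is a specialisation of a maximal point. -/
theorem exists_isMax_specializes {X : Scheme.{u}} (x : X) :
    ∃ eta : X, eta ⤳ x ∧ ∀ y, y ⤳ eta → y = eta := by
  have hC := irreducibleComponent_mem_irreducibleComponents x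
  obtain ⟨eta, heta⟩ := QuasiSober.sober hC.1 (isClosed_of_mem_irreducibleComponents _ hC)
  refine ⟨eta, specializes_iff_mem_closure.mpr (heta.def.ge mem_irreducibleComponent), fun y hy ↦ ?_⟩
  have h1 : irreducibleComponent x ⊆ closure {y} := heta.def.ge.trans
    (closure_minimal (Set.singleton_subset_iff.mpr (specializes_iff_mem_closure.mp hy)) isClosed_closure)
  have h2 : closure {y} ⊆ irreducibleComponent x := hC.2 isIrreducible_singleton.closure h1
  exact ((specializes_iff_mem_closure.mpr (heta.def.ge (h2 (subset_closure rfl)))).antisymm hy).eq.symm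

variable {S : Scheme.{u}} {G X T : Over S} [GrpObj G]

/-- The orbit map of a `T`-point. -/
noncomputable def orb (a : AlgGrp.Action G X) (x : T ⟶ X) : G ⊗ T ⟶ X ⊗ T :=
  lift (lift (fst G T) (snd G T ≫ x) ≫ a.act) (snd G T)

/-- The orbit map is a base change of the action graph. -/
lemma isPullback_orb (a : AlgGrp.Action G X) (x : T ⟶ X) :
    IsPullback (G ◁ x).left (orb a x).left (lift a.act (snd G X)).left (X ◁ x).left := by
  refine IsPullback.of_bot ?_ ?_ (Groth.AlgGrp2.isPullback_whiskerLeft_snd X x)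
  · rw [← Over.comp_left, ← Over.comp_left, show orb a x ≫ snd X T = snd G T from lift_snd _ _,
      show lift a.act (snd G X) ≫ snd X X = snd G X from lift_snd _ _]
    exact Groth.AlgGrp2.isPullback_whiskerLeft_snd G x
  · rw [← Over.comp_left, ← Over.comp_left]
    congr 1
    apply CartesianMonoidalCategory.hom_ext
    · simp only [Category.assoc, lift_fst, whiskerLeft_fst, orb]
      congr 1
    · simp [orb]

/-- Over an algebraically closed field the orbit map of a transitive action pulls dense opens back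
to dense opens. -/
theorem dense_preimage_orb {K : Type u} [Field K] [IsAlgClosed K]
    (t : Spec (CommRingCat.of K) ⟶ S) (x : Over.mk t ⟶ X) (a : AlgGrp.Action G X)
    (hΦ : Surjective (lift a.act (snd G X)).left)
    [LocallyOfFiniteType (snd G (Over.mk t)).left] [LocallyOfFiniteType (snd X (Over.mk t)).left]
    {U : Set (X ⊗ Over.mk t).left} (hU : IsOpen U) (hd : Dense U) :
    Dense ((orb a x).left.base ⁻¹' U) := by
  rcases isEmpty_or_nonempty (G ⊗ Over.mk t).left with hE | hNE
  · intro g; exact isEmptyElim g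
  set o := orb a x with ho
  haveI : Surjective o.left := MorphismProperty.of_isPullback (isPullback_orb a x) hΦ
  haveI : IsLocallyNoetherian (Over.mk t).left :=
    inferInstanceAs (IsLocallyNoetherian (Spec (CommRingCat.of K)))
  haveI : JacobsonSpace (Over.mk t).left :=
    inferInstanceAs (JacobsonSpace ↥(Spec (CommRingCat.of K)))
  haveI : IsLocallyNoetherian (X ⊗ Over.mk t).left :=
    LocallyOfFiniteType.isLocallyNoetherian (snd X (Over.mk t)).left
  haveI : JacobsonSpace (G ⊗ Over.mk t).left :=
    LocallyOfFiniteType.jacobsonSpace (snd G (Over.mk t)).left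
  obtain ⟨z₀⟩ := hNE
  obtain ⟨eta, -, heta⟩ := exists_isMax_specializes (o.left z₀)
  obtain ⟨zet, hzet⟩ := o.left.surjective eta
  obtain ⟨xi, hxizet, hxi⟩ := exists_isMax_specializes zet
  have hoxi : o.left xi = eta := heta _ (hzet ▸ hxizet.map o.left.continuous)
  obtain ⟨c₀, hc₀xi, hc₀⟩ : ∃ c, xi ⤳ c ∧ IsClosed ({c} : Set (G ⊗ Over.mk t).left) := by
    obtain ⟨c, hc, hcc⟩ := nonempty_inter_closedPoints (X := (G ⊗ Over.mk t).left)
      ⟨xi, subset_closure (Set.mem_singleton xi)⟩ isClosed_closure.isLocallyClosed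
    exact ⟨c, specializes_iff_mem_closure.mpr hc, hcc⟩
  refine dense_iff_closure_eq.mpr (Set.univ_subset_iff.mp ?_)
  rw [← closure_closedPoints]
  refine closure_minimal (fun c hc ↦ ?_) isClosed_closure
  have pt : ∀ c : (G ⊗ Over.mk t).left, IsClosed {c} →
      ∃ g : Over.mk t ⟶ G, (lift g (𝟙 _)).left (IsLocalRing.closedPoint K) = c := by
    intro c hc
    obtain ⟨⟨p, hp⟩, hpc⟩ := (pointEquivClosedPoint (snd G (Over.mk t)).left).surjective ⟨c, hc⟩
    let g : Over.mk t ⟶ G := Over.homMk (p ≫ (fst G (Over.mk t)).left) (by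
      show (p ≫ _) ≫ G.hom = t
      rw [Category.assoc, (Groth.AlgGrp2.isPullback_fst_snd G (Over.mk t)).w, ← Category.assoc, hp]
      exact Category.id_comp t)
    refine ⟨g, ?_⟩
    have e : (lift g (𝟙 (Over.mk t))).left = p :=
      (Groth.AlgGrp2.isPullback_fst_snd G (Over.mk t)).hom_ext
        (by rw [← Over.comp_left, lift_fst]; rfl) (by rw [← Over.comp_left, lift_snd, hp]; rfl)
    rw [e]
    exact congrArg Subtype.val hpc
  obtain ⟨g₀, hg₀⟩ := pt c₀ hc₀
  obtain ⟨g₁, hg₁⟩ := pt c hc
  let gam : Over.mk t ⟶ G := g₁ * g₀⁻¹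
  let L : G ⊗ Over.mk t ≅ G ⊗ Over.mk t :=
    { hom := lift ((snd _ _ ≫ gam) * fst _ _) (snd _ _)
      inv := lift ((snd _ _ ≫ gam)⁻¹ * fst _ _) (snd _ _)
      hom_inv_id := by
        apply CartesianMonoidalCategory.hom_ext <;> simp [MonObj.comp_mul, GrpObj.comp_inv]
      inv_hom_id := by
        apply CartesianMonoidalCategory.hom_ext <;> simp [MonObj.comp_mul, GrpObj.comp_inv] }
  let Λ : X ⊗ Over.mk t ≅ X ⊗ Over.mk t :=
    { hom := lift (lift (snd _ _ ≫ gam) (fst _ _) ≫ a.act) (snd _ _)
      inv := lift (lift (snd _ _ ≫ gam)⁻¹ (fst _ _) ≫ a.act) (snd _ _)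
      hom_inv_id := by
        apply CartesianMonoidalCategory.hom_ext
        · simp only [Category.assoc, lift_fst, Category.id_comp]
          rw [← Category.assoc, comp_lift, lift_fst, GrpObj.comp_inv, ← Category.assoc (lift _ _),
            lift_snd, Groth.AlgGrp2.lift_inv_act]
        · simp
      inv_hom_id := by
        apply CartesianMonoidalCategory.hom_ext
        · simp only [Category.assoc, lift_fst, Category.id_comp]
          rw [← Category.assoc, comp_lift, lift_fst, ← Category.assoc (lift _ _),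
            lift_snd, Groth.AlgGrp2.lift_act_inv]
        · simp }
  have hcomm : L.hom ≫ o = o ≫ Λ.hom := by
    apply CartesianMonoidalCategory.hom_ext
    · simp only [L, Λ, ho, orb, Category.assoc, lift_fst]
      rw [← Category.assoc, comp_lift, lift_fst, ← Category.assoc (lift _ _), lift_snd,
        ← Category.assoc (lift _ _), comp_lift, lift_fst, ← Category.assoc (lift _ _), lift_snd,
        Groth.AlgGrp2.lift_mul_act]
    · simp [L, Λ, ho, orb]
  have hmax : ∀ y, y ⤳ Λ.hom.left eta → y = Λ.hom.left eta := fun y hy ↦ by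
    have hy' := heta _ ((hy.map Λ.inv.left.continuous).trans (specializes_of_eq (by
      show Λ.inv.left (Λ.hom.left eta) = eta
      rw [← Scheme.Hom.comp_apply, ← Over.comp_left, Λ.hom_inv_id]; rfl)))
    rw [← hy']
    show y = Λ.hom.left (Λ.inv.left y)
    rw [← Scheme.Hom.comp_apply, ← Over.comp_left, Λ.inv_hom_id]; rfl
  have hmem : L.hom.left xi ∈ o.left.base ⁻¹' U := by
    show o.left (L.hom.left xi) ∈ U
    rw [← Scheme.Hom.comp_apply, ← Over.comp_left, hcomm, Over.comp_left, Scheme.Hom.comp_apply, hoxi]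
    exact mem_of_isMax hU hd hmax
  refine closure_mono (Set.singleton_subset_iff.mpr hmem) (specializes_iff_mem_closure.mp ?_)
  have hLc : L.hom.left c₀ = c := by
    rw [← hg₀, ← Scheme.Hom.comp_apply, ← Over.comp_left, ← hg₁]
    suffices h : lift g₀ (𝟙 (Over.mk t)) ≫ L.hom = lift g₁ (𝟙 (Over.mk t)) by rw [h]
    apply CartesianMonoidalCategory.hom_ext
    · simp [L, gam, MonObj.comp_mul]
    · simp [L]
  exact hLc ▸ hc₀xi.map L.hom.left.continuous

end Groth.GrpschSep
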