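import Groth.Agent.GrpschSep.MaxPoint
import Groth.Agent.GrpschSep.Dense
import Groth.Agent.GrpschAbsch.IdComp

/-!
Maximal points of a scheme with a transitive action, at a geometric point of the base.
-/

set_option autoImplicit false
universe u

open CategoryTheory CategoryTheory.Limits MonoidalCategory CartesianMonoidalCategory MonObj GrpObj
  AlgebraicGeometry

namespace Groth.GrpschSep

variable {S : Scheme.{u}} {G X : Over S} [GrpObj G] {K : Type u} [Field K]
  (t : Spec (CommRingCat.of K) ⟶ S)

instance flat_snd_field (Y : Over S) : Flat (snd Y (Over.mk t)).left :=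
  haveI : Subsingleton ↥(Over.mk t).left := inferInstanceAs (Subsingleton ↥(Spec (CommRingCat.of K)))
  haveI : IsIntegral (Over.mk t).left := inferInstanceAs (IsIntegral (Spec (CommRingCat.of K)))
  inferInstance

instance universallyOpen_snd_field (Y : Over S) : UniversallyOpen (snd Y (Over.mk t)).left :=
  haveI : Subsingleton ↥(Over.mk t).left := inferInstanceAs (Subsingleton ↥(Spec (CommRingCat.of K)))
  haveI : IsIntegral (Over.mk t).left := inferInstanceAs (IsIntegral (Spec (CommRingCat.of K)))
  inferInstance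

variable {t}

/-- The action on the base change. -/
noncomputable def actT (a : AlgGrp.Action G X) (T : Over S) : G ⊗ (X ⊗ T) ⟶ X ⊗ T :=
  lift (lift (fst _ _) (snd _ _ ≫ fst _ _) ≫ a.act) (snd _ _ ≫ snd _ _)

/-- The action on the base change is the projection, up to an isomorphism. -/
lemma exists_iso_actT (a : AlgGrp.Action G X) (T : Over S) :
    ∃ e : G ⊗ (X ⊗ T) ≅ G ⊗ (X ⊗ T), e.hom ≫ snd G (X ⊗ T) = actT a T := by
  refine ⟨{ hom := lift (fst _ _) (actT a T)
            inv := lift (fst _ _) (lift (lift (fst _ _)⁻¹ (snd _ _ ≫ fst _ _) ≫ a.act) (snd _ _ ≫ snd _ _))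
            hom_inv_id := ?_, inv_hom_id := ?_ }, lift_snd _ _⟩
  · apply CartesianMonoidalCategory.hom_ext
    · simp
    · apply CartesianMonoidalCategory.hom_ext
      · simp only [actT, Category.assoc, lift_fst, lift_snd, Category.id_comp]
        rw [← Category.assoc, comp_lift, GrpObj.comp_inv, lift_fst, lift_snd_assoc, lift_fst,
          Groth.AlgGrp2.lift_inv_act]
      · simp [actT]
  · apply CartesianMonoidalCategory.hom_ext
    · simp
    · apply CartesianMonoidalCategory.hom_ext
      · simp only [actT, Category.assoc, lift_fst, lift_snd, Category.id_comp]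
        rw [← Category.assoc, comp_lift, lift_fst, lift_snd_assoc, lift_fst,
          Groth.AlgGrp2.lift_act_inv]
      · simp [actT]

/-- The projections of `G ⊗ (X ⊗ T)` form a cartesian square. -/
lemma isPullback_projections (G X T : Over S) :
    IsPullback (G ◁ snd X T).left (snd G (X ⊗ T)).left (snd G T).left (snd X T).left :=
  Groth.AlgGrp2.isPullback_whiskerLeft_snd G (snd X T)

instance flat_projection (G X : Over S) : Flat (G ◁ snd X (Over.mk t)).left :=
  MorphismProperty.of_isPullback (P := @Flat) (isPullback_projections G X (Over.mk t)).flip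
    (flat_snd_field t X)

instance flat_snd_projection (G X : Over S) : Flat (snd G (X ⊗ Over.mk t)).left :=
  MorphismProperty.of_isPullback (P := @Flat) (isPullback_projections G X (Over.mk t))
    (flat_snd_field t G)

instance universallyOpen_snd_projection (G X : Over S) :
    UniversallyOpen (snd G (X ⊗ Over.mk t)).left :=
  MorphismProperty.of_isPullback (P := @UniversallyOpen) (isPullback_projections G X (Over.mk t))
    (universallyOpen_snd_field t G)

variable [IsAlgClosed K] [LocallyOfFiniteType (snd G (Over.mk t)).left]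
  (a : AlgGrp.Action G X) (hΦ : Surjective (lift a.act (snd G X)).left) (x : Over.mk t ⟶ X)

/-- Closed points of the geometric group are sections. -/
theorem exists_section (c : (G ⊗ Over.mk t).left) (hc : IsClosed {c}) :
    ∃ g : Over.mk t ⟶ G, (lift g (𝟙 _)).left (IsLocalRing.closedPoint K) = c := by
  obtain ⟨⟨p, hp⟩, hpc⟩ := (pointEquivClosedPoint (snd G (Over.mk t)).left).surjective ⟨c, hc⟩
  let g : Over.mk t ⟶ G := Over.homMk (p ≫ (fst G (Over.mk t)).left) (by
    show (p ≫ _) ≫ G.hom = t
    rw [Category.assoc, (Groth.AlgGrp2.isPullback_fst_snd G (Over.mk t)).w, ← Category.assoc, hp]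
    exact Category.id_comp t)
  refine ⟨g, ?_⟩
  have e : (lift g (𝟙 (Over.mk t))).left = p :=
    (Groth.AlgGrp2.isPullback_fst_snd G (Over.mk t)).hom_ext
      (by rw [← Over.comp_left, lift_fst]; rfl) (by rw [← Over.comp_left, lift_snd, hp]; rfl)
  rw [e]
  exact congrArg Subtype.val hpc

omit [LocallyOfFiniteType (snd G (Over.mk t)).left] [IsAlgClosed K] in
/-- The geometric group as a group over the field. -/
lemma grp_geom : ∃ (F : Over (Spec (CommRingCat.of K))) (_ : GrpObj F)
    (e : F.left ≅ (G ⊗ Over.mk t).left), e.hom ≫ (snd G (Over.mk t)).left = F.hom := by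
  letI : GrpObj (Over.mk G.hom) := ‹GrpObj G›
  let F : Over (Spec (CommRingCat.of K)) := Over.mk (pullback.snd G.hom t)
  exact ⟨F, Over.grpObjMkPullbackSnd,
    (IsPullback.of_hasPullback G.hom t).isoIsPullback _ _ (Groth.AlgGrp2.isPullback_fst_snd G (Over.mk t)),
    (IsPullback.of_hasPullback G.hom t).isoIsPullback_hom_snd _ _ _⟩

/-- Each point of the geometric group has one maximal generalisation. -/
theorem uniqueMax_group : UniqueMax (G ⊗ Over.mk t).left := by
  obtain ⟨F, _, e, he⟩ := grp_geom (G := G) (t := t)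
  haveI : LocallyOfFiniteType F.hom := he ▸ inferInstance
  have hF : UniqueMax F.left := by
    intro p u v hu hv hup hvp
    have hu' : u ∈ connectedComponent p := by
      rw [← connectedComponent_eq (hup.mem_closed isClosed_connectedComponent mem_connectedComponent)]
      exact mem_connectedComponent
    have hv' : v ∈ connectedComponent p := by
      rw [← connectedComponent_eq (hvp.mem_closed isClosed_connectedComponent mem_connectedComponent)]
      exact mem_connectedComponent
    obtain ⟨m, hm⟩ := QuasiSober.sober (Groth.GrpschAbsch.isIrreducible_connectedComponent F p)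
      isClosed_connectedComponent
    rw [← hu m (specializes_iff_mem_closure.mpr (hm.def.ge hu')),
      ← hv m (specializes_iff_mem_closure.mpr (hm.def.ge hv'))]
  exact hF.descend e.hom

include hΦ in
/-- The orbit map carries maximal points to maximal points. -/
theorem isMaxPt_orb {m : (G ⊗ Over.mk t).left} (hm : IsMaxPt m) :
    IsMaxPt ((orb a x).left m) := by
  set o := orb a x with ho
  haveI : Surjective o.left := MorphismProperty.of_isPullback (isPullback_orb a x) hΦ
  haveI : JacobsonSpace (Over.mk t).left :=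
    inferInstanceAs (JacobsonSpace ↥(Spec (CommRingCat.of K)))
  haveI : JacobsonSpace (G ⊗ Over.mk t).left :=
    LocallyOfFiniteType.jacobsonSpace (snd G (Over.mk t)).left
  obtain ⟨n, hn, hnmax⟩ := exists_isMaxPt (o.left m)
  obtain ⟨z, hz⟩ := o.left.surjective n
  obtain ⟨m₀, hm₀z, hm₀⟩ := exists_isMaxPt z
  have hom₀ : o.left m₀ = n := hnmax _ (hz ▸ hm₀z.map o.left.continuous)
  have cl : ∀ w : (G ⊗ Over.mk t).left, ∃ c, w ⤳ c ∧ IsClosed ({c} : Set (G ⊗ Over.mk t).left) := by
    intro w
    obtain ⟨c, hc, hcc⟩ := nonempty_inter_closedPoints (X := (G ⊗ Over.mk t).left)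
      ⟨w, subset_closure (Set.mem_singleton w)⟩ isClosed_closure.isLocallyClosed
    exact ⟨c, specializes_iff_mem_closure.mpr hc, hcc⟩
  obtain ⟨c₀, hc₀m, hc₀⟩ := cl m₀
  obtain ⟨c, hcm, hc⟩ := cl m
  obtain ⟨g₀, hg₀⟩ := exists_section c₀ hc₀
  obtain ⟨g₁, hg₁⟩ := exists_section c hc
  let gam : Over.mk t ⟶ G := g₁ * g₀⁻¹
  let L : G ⊗ Over.mk t ≅ G ⊗ Over.mk t :=
    { hom := lift ((snd _ _ ≫ gam) * fst _ _) (snd _ _)
      inv := lift ((snd _ _ ≫ gam)⁻¹ * fst _ _) (snd _ _)
      hom_inv_id := by
        apply CartesianMonoidalCategory.hom_ext <;> simp [MonObj.comp_mul, GrpObj.comp_inv]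
      inv_hom_id := by
        apply CartesianMonoidalCategory.hom_ext <;> simp [MonObj.comp_mul, GrpObj.comp_inv] }
  let Λ : X ⊗ Over.mk t ≅ X ⊗ Over.mk t :=
    { hom := lift (lift (snd _ _ ≫ gam) (fst _ _) ≫ a.act) (snd _ _)
      inv := lift (lift (snd _ _ ≫ gam)⁻¹ (fst _ _) ≫ a.act) (snd _ _)
      hom_inv_id := by
        apply CartesianMonoidalCategory.hom_ext
        · simp only [Category.assoc, lift_fst, Category.id_comp]
          rw [← Category.assoc, comp_lift, lift_fst, GrpObj.comp_inv, ← Category.assoc (lift _ _),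
            lift_snd, Groth.AlgGrp2.lift_inv_act]
        · simp
      inv_hom_id := by
        apply CartesianMonoidalCategory.hom_ext
        · simp only [Category.assoc, lift_fst, Category.id_comp]
          rw [← Category.assoc, comp_lift, lift_fst, ← Category.assoc (lift _ _),
            lift_snd, Groth.AlgGrp2.lift_act_inv]
        · simp }
  have hcomm : L.hom ≫ o = o ≫ Λ.hom := by
    apply CartesianMonoidalCategory.hom_ext
    · simp only [L, Λ, ho, orb, Category.assoc, lift_fst]
      rw [← Category.assoc, comp_lift, lift_fst, ← Category.assoc (lift _ _), lift_snd,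
        ← Category.assoc (lift _ _), comp_lift, lift_fst, ← Category.assoc (lift _ _), lift_snd,
        Groth.AlgGrp2.lift_mul_act]
    · simp [L, Λ, ho, orb]
  have hLc : L.hom.left c₀ = c := by
    rw [← hg₀, ← Scheme.Hom.comp_apply, ← Over.comp_left, ← hg₁]
    suffices h : lift g₀ (𝟙 (Over.mk t)) ≫ L.hom = lift g₁ (𝟙 (Over.mk t)) by rw [h]
    apply CartesianMonoidalCategory.hom_ext
    · simp [L, gam, MonObj.comp_mul]
    · simp [L]
  haveI : IsOpenImmersion L.hom.left :=
    haveI : IsIso L.hom.left := ((Over.forget S).mapIso L).isIso_hom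
    inferInstance
  haveI : IsOpenImmersion Λ.hom.left :=
    haveI : IsIso Λ.hom.left := ((Over.forget S).mapIso Λ).isIso_hom
    inferInstance
  have hLm : m = L.hom.left m₀ :=
    uniqueMax_group c m (L.hom.left m₀) hm (hm₀.map_flat L.hom.left) hcm
      (hLc ▸ hc₀m.map L.hom.left.continuous)
  rw [hLm, ← Scheme.Hom.comp_apply, ← Over.comp_left, hcomm, Over.comp_left, Scheme.Hom.comp_apply,
    hom₀]
  exact hnmax.map_flat Λ.hom.left

include hΦ in
/-- The orbit map pulls opens containing all maximal points back to dense opens. -/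
theorem dense_preimage_orb_of_max {U : Set (X ⊗ Over.mk t).left}
    (hmem : ∀ n : (X ⊗ Over.mk t).left, IsMaxPt n → n ∈ U) :
    Dense ((orb a x).left.base ⁻¹' U) := by
  intro p
  obtain ⟨m, hmp, hm⟩ := exists_isMaxPt p
  exact hmp.mem_closed isClosed_closure (subset_closure (hmem _ (isMaxPt_orb a hΦ x hm)))

include hΦ in
/-- If one rational point has a unique maximal generalisation, so has every point. -/
theorem uniqueMax_of_point
    (hx : ∀ u v : (X ⊗ Over.mk t).left, IsMaxPt u → IsMaxPt v →
      u ⤳ (lift x (𝟙 (Over.mk t))).left (IsLocalRing.closedPoint K) →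
      v ⤳ (lift x (𝟙 (Over.mk t))).left (IsLocalRing.closedPoint K) → u = v) :
    UniqueMax (X ⊗ Over.mk t).left := by
  intro p u v hu hv hup hvp
  set o := orb a x with ho
  haveI : Surjective o.left := MorphismProperty.of_isPullback (isPullback_orb a x) hΦ
  obtain ⟨c, hc⟩ := o.left.surjective p
  let ι₀ : G ⊗ Over.mk t ⟶ G ⊗ (X ⊗ Over.mk t) := lift (fst _ _) (lift (snd _ _ ≫ x) (snd _ _))
  have h1 : ι₀ ≫ (G ◁ snd X (Over.mk t)) = 𝟙 _ := by
    apply CartesianMonoidalCategory.hom_ext <;> simp [ι₀]
  have h2 : ι₀ ≫ snd G (X ⊗ Over.mk t) = snd G (Over.mk t) ≫ lift x (𝟙 _) := by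
    apply CartesianMonoidalCategory.hom_ext <;> simp [ι₀]
  have h3 : ι₀ ≫ actT a (Over.mk t) = o := by
    apply CartesianMonoidalCategory.hom_ext
    · simp only [ι₀, ho, orb, actT, Category.assoc, lift_fst]
      rw [← Category.assoc, comp_lift, lift_fst, lift_snd_assoc, lift_fst]
    · simp [ι₀, ho, orb, actT]
  let w₀ := ι₀.left c
  obtain ⟨e, he⟩ := exists_iso_actT a (Over.mk t)
  haveI : Flat (actT a (Over.mk t)).left := by
    rw [← he, Over.comp_left]; infer_instance
  have hact : (actT a (Over.mk t)).left w₀ = p := by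
    rw [← hc, ← h3]; rfl
  have lifts : ∀ {n}, IsMaxPt n → n ⤳ p → ∃ w, IsMaxPt w ∧ w ⤳ w₀ ∧
      (actT a (Over.mk t)).left w = n := by
    intro n hn hnp
    obtain ⟨w', hw', rfl⟩ := Flat.generalizingMap (actT a (Over.mk t)).left (hact.symm ▸ hnp :)
    obtain ⟨w, hw, hwm⟩ := exists_isMaxPt w'
    exact ⟨w, hwm, hw.trans hw', hn _ (hw.map (actT a (Over.mk t)).left.continuous)⟩
  obtain ⟨w, hw, hw₀, rfl⟩ := lifts hu hup
  obtain ⟨w', hw', hw₀', rfl⟩ := lifts hv hvp
  congr 1
  refine IsMaxPt.eq_of_pullback (isPullback_projections G X (Over.mk t)) hw hw'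
    (f := (snd G (Over.mk t)).left) (g := (snd X (Over.mk t)).left) ?_ ?_
  · exact uniqueMax_group c _ _ (hw.map_flat _) (hw'.map_flat _)
      ((hw₀.map (G ◁ snd X (Over.mk t)).left.continuous).trans (specializes_of_eq (congr(($h1).left.base c))))
      ((hw₀'.map (G ◁ snd X (Over.mk t)).left.continuous).trans (specializes_of_eq (congr(($h1).left.base c))))
  · have e2 : (snd G (X ⊗ Over.mk t)).left w₀ =
        (lift x (𝟙 (Over.mk t))).left (IsLocalRing.closedPoint K) :=
      (congr(($h2).left.base c)).trans (congrArg (lift x (𝟙 (Over.mk t))).left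
        (Subsingleton.elim (α := ↥(Spec (CommRingCat.of K))) _ _))
    exact hx _ _ (hw.map_flat _) (hw'.map_flat _)
      ((hw₀.map (snd G (X ⊗ Over.mk t)).left.continuous).trans (specializes_of_eq e2))
      ((hw₀'.map (snd G (X ⊗ Over.mk t)).left.continuous).trans (specializes_of_eq e2))

end Groth.GrpschSep
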