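import Groth.Agent.GrpschSep.Dense
import Mathlib.AlgebraicGeometry.ResidueField
import Mathlib.FieldTheory.IsAlgClosed.AlgebraicClosure

/-!
A scheme with a transitive action and enough separated opens is separated.
-/

set_option autoImplicit false
universe u

open CategoryTheory CategoryTheory.Limits MonoidalCategory CartesianMonoidalCategory MonObj GrpObj
  AlgebraicGeometry

namespace Groth.GrpschSep

lemma exists_preimage_of_isPullback {P A B C : Scheme.{u}} {f : P ⟶ A} {g : P ⟶ B} {h : A ⟶ C}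
    {k : B ⟶ C} (sq : IsPullback f g h k) (a : A) (b : B) (e : h a = k b) :
    ∃ p : P, f p = a ∧ g p = b := by
  obtain ⟨p, hp₁, hp₂⟩ := Scheme.Pullback.exists_preimage_pullback a b e
  exact ⟨sq.isoPullback.inv p, by rw [← Scheme.Hom.comp_apply, sq.isoPullback_inv_fst, hp₁],
    by rw [← Scheme.Hom.comp_apply, sq.isoPullback_inv_snd, hp₂]⟩

variable {S : Scheme.{u}} {G X : Over S} [GrpObj G]

/-- A scheme with a transitive action of a group scheme which is universally open near the unit is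
separated as soon as the translates moving a geometric point into a separated open are dense. -/
theorem isSeparated_of_dense (a : AlgGrp.Action G X)
    (W : G.left.Opens) (hW : ∀ p : ↥(𝟙_ (Over S)).left, η[G].left.base p ∈ W)
    (hWo : UniversallyOpen (W.ι ≫ G.hom))
    (hU : ∀ s : S, ∃ U : X.left.Opens, IsSeparated (U.ι ≫ X.hom) ∧
      ∀ (K : Type u) [Field K] [IsAlgClosed K] (t : Spec (CommRingCat.of K) ⟶ S),
        t (IsLocalRing.closedPoint K) = s → ∀ w : Over.mk t ⟶ X,
          Dense ((orb a w).left.base ⁻¹' ((fst X (Over.mk t)).left ⁻¹' (U : Set X.left)))) :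
    IsSeparated X.hom := by
  let dg : X ⟶ X ⊗ X := lift (𝟙 X) (𝟙 X)
  have hdiag : pullback.diagonal X.hom = dg.left := by
    refine (Groth.AlgGrp2.isPullback_fst_snd X X).hom_ext ?_ ?_
    · rw [← Over.comp_left, lift_fst]; exact pullback.diagonal_fst _
    · rw [← Over.comp_left, lift_snd]; exact pullback.diagonal_snd _
  haveI : IsPreimmersion dg.left := hdiag ▸ inferInstance
  suffices hcl : IsClosed (Set.range dg.left) by
    have : IsClosedImmersion (pullback.diagonal X.hom) := hdiag ▸ IsClosedImmersion.of_isPreimmersion dg.left hcl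
    exact ⟨this⟩
  refine isClosed_of_closure_subset fun z hz ↦ ?_
  -- a geometric point over `z`
  let K := AlgebraicClosure ((X ⊗ X).left.residueField z)
  let t₀ : Spec (CommRingCat.of K) ⟶ (X ⊗ X).left :=
    Spec.map (CommRingCat.ofHom (algebraMap ((X ⊗ X).left.residueField z) K)) ≫
      (X ⊗ X).left.fromSpecResidueField z
  have ht₀ : ∀ p, t₀ p = z := fun p ↦ Scheme.fromSpecResidueField_apply z _
  let t : Spec (CommRingCat.of K) ⟶ S := t₀ ≫ (X ⊗ X).hom
  let T : Over S := Over.mk t
  let tz : T ⟶ X ⊗ X := Over.homMk t₀ rfl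
  let pt : Spec (CommRingCat.of K) := IsLocalRing.closedPoint K
  let s := t pt
  obtain ⟨U, hUsep, hUd⟩ := hU s
  have hUo : IsOpen ((fst X T).left ⁻¹' (U : Set X.left)) := U.2.preimage (fst X T).left.continuous
  let x : T ⟶ X := tz ≫ fst X X
  let y : T ⟶ X := tz ≫ snd X X
  have hd : ∀ w : T ⟶ X, Dense ((orb a w).left.base ⁻¹' ((fst X T).left ⁻¹' (U : Set X.left))) :=
    fun w ↦ hUd K t rfl w
  let oo : ∀ w : T ⟶ X, Set (G ⊗ T).left :=
    fun w ↦ (orb a w).left.base ⁻¹' ((fst X T).left ⁻¹' (U : Set X.left))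
  have hoo : ∀ w, IsOpen (oo w) := fun w ↦ hUo.preimage (orb a w).left.continuous
  have he : ((fst G T).left ⁻¹' (W : Set G.left)).Nonempty := by
    refine ⟨(lift (1 : T ⟶ G) (𝟙 T)).left pt, ?_⟩
    show (fst G T).left _ ∈ W
    rw [← Scheme.Hom.comp_apply, ← Over.comp_left, lift_fst]
    exact hW _
  obtain ⟨w, hwW, hwx, hwy⟩ := ((hd x).inter_of_isOpen_left (hd y) (hoo x)).inter_open_nonempty _
    (W.2.preimage (fst G T).left.continuous) he
  -- the open of the group
  let Gw : Over S := Over.mk (W.ι ≫ G.hom)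
  let j : Gw ⟶ G := Over.homMk W.ι rfl
  obtain ⟨v, hv, -⟩ := exists_preimage_of_isPullback
    (Groth.AlgGrp2.isPullback_whiskerRight_fst T j) w ⟨(fst G T).left w, hwW⟩ rfl
  let p : Gw ⊗ (X ⊗ X) ⟶ X ⊗ X := snd _ _
  let g : Gw ⊗ (X ⊗ X) ⟶ G := fst _ _ ≫ j
  let M : Gw ⊗ (X ⊗ X) ≅ Gw ⊗ (X ⊗ X) :=
    { hom := lift (fst _ _) (lift (lift g (p ≫ fst _ _) ≫ a.act) (lift g (p ≫ snd _ _) ≫ a.act))
      inv := lift (fst _ _) (lift (lift g⁻¹ (p ≫ fst _ _) ≫ a.act) (lift g⁻¹ (p ≫ snd _ _) ≫ a.act))
      hom_inv_id := by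
        apply CartesianMonoidalCategory.hom_ext
        · simp
        apply CartesianMonoidalCategory.hom_ext <;>
        · simp only [g, p, Category.assoc, lift_fst, lift_snd, Category.id_comp]
          rw [← Category.assoc, comp_lift, GrpObj.comp_inv, lift_fst_assoc, lift_snd_assoc]
          simp only [lift_fst_assoc, lift_snd_assoc, lift_fst, lift_snd, Groth.AlgGrp2.lift_inv_act]
      inv_hom_id := by
        apply CartesianMonoidalCategory.hom_ext
        · simp
        apply CartesianMonoidalCategory.hom_ext <;>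
        · simp only [g, p, Category.assoc, lift_fst, lift_snd, Category.id_comp]
          rw [← Category.assoc, comp_lift, lift_fst_assoc, lift_snd_assoc]
          simp [Groth.AlgGrp2.lift_act_inv] }
  let m : Gw ⊗ (X ⊗ X) ⟶ X ⊗ X := M.hom ≫ p
  haveI : UniversallyOpen p.left :=
    MorphismProperty.of_isPullback (Groth.AlgGrp2.isPullback_fst_snd Gw (X ⊗ X)) hWo
  have hδ : ∀ (φ : Gw ⊗ (X ⊗ X) ⟶ Gw ⊗ (X ⊗ X)) (b : Gw ⊗ X ⟶ X),
      (Gw ◁ dg) ≫ φ ≫ p = b ≫ dg → ∀ c, p.left c ∈ Set.range dg.left →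
        p.left (φ.left c) ∈ Set.range dg.left := by
    intro φ b hb c ⟨x₀, hx₀⟩
    obtain ⟨r, hr, -⟩ := exists_preimage_of_isPullback
      (Groth.AlgGrp2.isPullback_whiskerLeft_snd Gw dg) c x₀ hx₀.symm
    refine ⟨b.left r, ?_⟩
    rw [← hr, ← Scheme.Hom.comp_apply, ← Over.comp_left, ← hb]
    rfl
  have hset : p.left ⁻¹' Set.range dg.left = m.left ⁻¹' Set.range dg.left := by
    ext c
    refine ⟨fun h ↦ hδ M.hom (lift (fst _ _ ≫ j) (snd _ _) ≫ a.act) ?_ c h, fun h ↦ ?_⟩
    · apply CartesianMonoidalCategory.hom_ext <;>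
      · simp [M, p, g, dg]
        rw [← Category.assoc]
        congr 1
        apply CartesianMonoidalCategory.hom_ext <;> simp
    · have h' := hδ M.inv (lift ((fst _ _ ≫ j)⁻¹) (snd _ _) ≫ a.act) (by
        apply CartesianMonoidalCategory.hom_ext <;>
        · simp [M, p, g, dg]
          rw [← Category.assoc, comp_lift, GrpObj.comp_inv]
          simp) (M.hom.left c) h
      rwa [← Scheme.Hom.comp_apply M.hom.left M.inv.left, ← Over.comp_left, M.hom_inv_id] at h'
  let w' := (Gw ◁ tz).left v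
  have hpw : p.left w' = z := by
    rw [← Scheme.Hom.comp_apply, ← Over.comp_left, whiskerLeft_snd, Over.comp_left]
    exact ht₀ _
  have hmw : ∀ (π : X ⊗ X ⟶ X) (r : T ⟶ X), m ≫ π = lift g (p ≫ π) ≫ a.act → tz ≫ π = r →
      w ∈ oo r → π.left (m.left w') ∈ U := by
    intro π r hπ hr hw
    have e : (Gw ◁ tz) ≫ m ≫ π = (j ▷ T) ≫ orb a r ≫ fst X T := by
      rw [hπ, ← hr]
      simp only [orb, lift_fst]
      rw [← Category.assoc, ← Category.assoc]
      congr 1
      apply CartesianMonoidalCategory.hom_ext <;> simp [g, p]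
    show (m ≫ π).left w' ∈ U
    rw [show (m ≫ π).left w' = ((Gw ◁ tz) ≫ m ≫ π).left v from rfl, e]
    show (orb a r ≫ fst X T).left ((j ▷ T).left v) ∈ U
    rw [hv]
    exact hw
  have hm₁ := hmw (fst X X) x (by simp [m, M, p]) rfl hwx
  have hm₂ := hmw (snd X X) y (by simp [m, M, p]) rfl hwy
  have hmcl : m.left w' ∈ closure (Set.range dg.left) := by
    refine m.left.continuous.closure_preimage_subset _ ?_
    rw [← hset]
    exact p.left.isOpenMap.preimage_closure_subset_closure_preimage (hpw.symm ▸ hz :)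
  -- separatedness of `U`
  let Uo : Over S := Over.mk (U.ι ≫ X.hom)
  let k : Uo ⟶ X := Over.homMk U.ι rfl
  let du : Uo ⟶ Uo ⊗ Uo := lift (𝟙 Uo) (𝟙 Uo)
  haveI : IsClosedImmersion du.left := by
    have e : pullback.diagonal Uo.hom = du.left := by
      refine (Groth.AlgGrp2.isPullback_fst_snd Uo Uo).hom_ext ?_ ?_
      · rw [← Over.comp_left, lift_fst]; exact pullback.diagonal_fst _
      · rw [← Over.comp_left, lift_snd]; exact pullback.diagonal_snd _
    haveI : IsSeparated Uo.hom := hUsep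
    exact e ▸ (inferInstance : IsClosedImmersion (pullback.diagonal Uo.hom))
  haveI : IsOpenImmersion k.left := inferInstanceAs (IsOpenImmersion U.ι)
  haveI h1 : IsOpenImmersion (k ▷ Uo).left :=
    MorphismProperty.of_isPullback (Groth.AlgGrp2.isPullback_whiskerRight_fst Uo k).flip ‹_›
  haveI h2 : IsOpenImmersion (X ◁ k).left :=
    MorphismProperty.of_isPullback (Groth.AlgGrp2.isPullback_whiskerLeft_snd X k).flip ‹_›
  obtain ⟨b, hb, -⟩ := exists_preimage_of_isPullback
    (Groth.AlgGrp2.isPullback_whiskerLeft_snd X k) (m.left w') ⟨_, hm₂⟩ rfl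
  obtain ⟨a', ha', -⟩ := exists_preimage_of_isPullback
    (Groth.AlgGrp2.isPullback_whiskerRight_fst Uo k) b ⟨(fst X Uo).left b, by
      have : ((X ◁ k) ≫ fst X X).left b = (fst X X).left (m.left w') :=
        congrArg (fst X X).left hb
      rw [whiskerLeft_fst] at this
      rw [this]; exact hm₁⟩ rfl
  let i2 := (k ▷ Uo) ≫ (X ◁ k)
  haveI : IsOpenImmersion i2.left := inferInstanceAs (IsOpenImmersion ((k ▷ Uo).left ≫ (X ◁ k).left))
  have hi2 : i2.left a' = m.left w' := by
    show (X ◁ k).left ((k ▷ Uo).left a') = _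
    rw [ha', hb]
  have hpre : i2.left ⁻¹' Set.range dg.left ⊆ Set.range du.left := by
    rintro c ⟨x₀, hx₀⟩
    have e1 : k.left ((fst Uo Uo).left c) = x₀ := by
      have : (i2 ≫ fst X X).left c = (dg ≫ fst X X).left x₀ := congrArg (fst X X).left hx₀.symm
      simpa [i2, dg] using this
    refine ⟨(fst Uo Uo).left c, i2.left.isOpenEmbedding.injective ?_⟩
    rw [← hx₀, ← e1, ← Scheme.Hom.comp_apply, ← Scheme.Hom.comp_apply, ← Over.comp_left,
      ← Over.comp_left]
    show ((fst Uo Uo ≫ du) ≫ i2).left c = (fst Uo Uo ≫ k ≫ dg).left c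
    suffices e : (fst Uo Uo ≫ du) ≫ i2 = fst Uo Uo ≫ k ≫ dg by rw [e]
    rw [Category.assoc]
    congr 1
    apply CartesianMonoidalCategory.hom_ext <;> simp [i2, du, dg]
  have hin : m.left w' ∈ Set.range dg.left := by
    have h3 : a' ∈ closure (i2.left ⁻¹' Set.range dg.left) :=
      i2.left.isOpenEmbedding.isOpenMap.preimage_closure_subset_closure_preimage (hi2.symm ▸ hmcl :)
    obtain ⟨x₀, hx₀⟩ := closure_minimal hpre du.left.isClosedEmbedding.isClosed_range h3
    refine ⟨k.left x₀, ?_⟩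
    rw [← hi2, ← hx₀, ← Scheme.Hom.comp_apply, ← Scheme.Hom.comp_apply, ← Over.comp_left,
      ← Over.comp_left, show du ≫ i2 = k ≫ dg by
        apply CartesianMonoidalCategory.hom_ext <;> simp [i2, du, dg]]
  exact hpw ▸ hset.ge hin

/-- A scheme with a transitive action of a group scheme which is universally open near the unit,
having a separated open dense in each fibre, is separated. -/
theorem isSeparated_of_transitive [LocallyOfFiniteType G.hom] (a : AlgGrp.Action G X)
    (hΦ : Surjective (lift a.act (snd G X)).left)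
    (W : G.left.Opens) (hW : ∀ p : ↥(𝟙_ (Over S)).left, η[G].left.base p ∈ W)
    (hWo : UniversallyOpen (W.ι ≫ G.hom))
    (hft : ∀ s : S, LocallyOfFiniteType (X.hom.fiberToSpecResidueField s))
    (hU : ∀ s : S, ∃ U : X.left.Opens, IsSeparated (U.ι ≫ X.hom) ∧
      X.hom.base ⁻¹' {s} ⊆ closure ((U : Set X.left) ∩ X.hom.base ⁻¹' {s})) :
    IsSeparated X.hom := by
  refine isSeparated_of_dense a W hW hWo fun s ↦ ?_
  obtain ⟨U, hsep, hUd⟩ := hU s
  refine ⟨U, hsep, fun K _ _ t hts w ↦ ?_⟩
  subst hts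
  let pt : Spec (CommRingCat.of K) := IsLocalRing.closedPoint K
  let s : S := t pt
  let T : Over S := Over.mk t
  let σ : Spec (CommRingCat.of K) ⟶ Spec (S.residueField s) :=
    Spec.map (Scheme.descResidueField (Scheme.stalkClosedPointTo t))
  have hσ : σ ≫ S.fromSpecResidueField s = t :=
    Scheme.descResidueField_stalkClosedPointTo_fromSpecResidueField K S t
  let q : (X ⊗ T).left ⟶ X.hom.fiber s := pullback.lift (fst X T).left ((snd X T).left ≫ σ) (by
    rw [Category.assoc, hσ]; exact (Groth.AlgGrp2.isPullback_fst_snd X T).w)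
  have hq₁ : q ≫ X.hom.fiberι s = (fst X T).left := pullback.lift_fst _ _ _
  have hq : IsPullback q (snd X T).left (X.hom.fiberToSpecResidueField s) σ := by
    refine IsPullback.of_right ?_ (pullback.lift_snd _ _ _)
      (IsPullback.of_hasPullback X.hom (S.fromSpecResidueField s))
    rw [hσ]
    exact hq₁ ▸ Groth.AlgGrp2.isPullback_fst_snd X T
  haveI : LocallyOfFiniteType (snd X T).left := MorphismProperty.of_isPullback hq (hft s)
  haveI : LocallyOfFiniteType (snd G T).left :=
    MorphismProperty.of_isPullback (Groth.AlgGrp2.isPullback_fst_snd G T) ‹_›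
  haveI : UniversallyOpen q := MorphismProperty.of_isPullback hq.flip inferInstance
  have hD : Dense ((fst X T).left ⁻¹' (U : Set X.left)) := by
    have h1 : Dense (X.hom.fiberι s ⁻¹' (U : Set X.left)) := by
      rw [(X.hom.fiberι s).isEmbedding.isInducing.dense_iff]
      intro w
      rw [Set.image_preimage_eq_inter_range, X.hom.range_fiberι]
      exact hUd ((X.hom.range_fiberι s).le ⟨w, rfl⟩)
    have h2 := h1.preimage q.isOpenMap
    rwa [← Set.preimage_comp, ← TopCat.coe_comp, ← Scheme.Hom.comp_base, hq₁] at h2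
  exact dense_preimage_orb t w a hΦ (U.2.preimage (fst X T).left.continuous) hD

end Groth.GrpschSep
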