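import Groth.Agent.GrpschSep.MaxPoint
import Groth.Agent.GrpschSep.Dense
import Groth.Agent.GrpschSep.Transitive
import Groth.Agent.GrpschSep.Homogeneous

/-!
Maximal points of group schemes and of transitive actions at geometric points, without any finiteness
hypothesis.
-/

set_option autoImplicit false
universe u

open CategoryTheory CategoryTheory.Limits MonoidalCategory CartesianMonoidalCategory MonObj GrpObj
  AlgebraicGeometry

namespace Groth.GrpschSep

variable {S : Scheme.{u}} {G X : Over S} [GrpObj G] {K : Type u} [Field K]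
  {t : Spec (CommRingCat.of K) ⟶ S}

/-- A point of a product over two points of the factors, at a field-valued point of the base. -/
theorem exists_pair (G X : Over S) (g : (G ⊗ Over.mk t).left) (x : (X ⊗ Over.mk t).left) :
    ∃ w : (G ⊗ (X ⊗ Over.mk t)).left, (G ◁ snd X (Over.mk t)).left w = g ∧
      (snd G (X ⊗ Over.mk t)).left w = x :=
  exists_preimage_of_isPullback (isPullback_projections G X (Over.mk t)) g x
    (Subsingleton.elim (α := ↥(Spec (CommRingCat.of K))) _ _)

/-- A maximal point of a product over two maximal points of the factors, generalising a given point. -/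
theorem exists_maxPair_le (G X : Over S) {g : (G ⊗ Over.mk t).left} {x : (X ⊗ Over.mk t).left}
    (hg : IsMaxPt g) (hx : IsMaxPt x) {w : (G ⊗ (X ⊗ Over.mk t)).left}
    (hwg : (G ◁ snd X (Over.mk t)).left w = g) (hwx : (snd G (X ⊗ Over.mk t)).left w = x) :
    ∃ w' : (G ⊗ (X ⊗ Over.mk t)).left, IsMaxPt w' ∧ w' ⤳ w ∧
      (G ◁ snd X (Over.mk t)).left w' = g ∧ (snd G (X ⊗ Over.mk t)).left w' = x := by
  obtain ⟨w', hw', hmax⟩ := exists_isMaxPt w
  exact ⟨w', hmax, hw', hg _ (hwg ▸ hw'.map (G ◁ snd X (Over.mk t)).left.continuous),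
    hx _ (hwx ▸ hw'.map (snd G (X ⊗ Over.mk t)).left.continuous)⟩

/-- The action of a group scheme on itself by left translations. -/
@[simps] noncomputable def selfAction (G : Over S) [GrpObj G] : AlgGrp.Action G G where
  act := μ[G]
  one_act := MonObj.one_mul G
  mul_act := MonObj.mul_assoc G

/-- The unit point of a geometric group. -/
noncomputable abbrev unitPt (G : Over S) [GrpObj G] (t : Spec (CommRingCat.of K) ⟶ S) :
    (G ⊗ Over.mk t).left :=
  (lift (1 : Over.mk t ⟶ G) (𝟙 (Over.mk t))).left (IsLocalRing.closedPoint K)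

variable [IsAlgClosed K]

/-- Two maximal generalisations of the unit of a geometric group agree. -/
theorem eq_of_specializes_unit {u v : (G ⊗ Over.mk t).left} (hu : IsMaxPt u) (hv : IsMaxPt v)
    (hue : u ⤳ unitPt G t) (hve : v ⤳ unitPt G t) : u = v := by
  obtain ⟨i, hi⟩ := exists_iso_actT (selfAction G) (Over.mk t)
  haveI : Flat (actT (selfAction G) (Over.mk t)).left := by rw [← hi, Over.comp_left]; infer_instance
  let e₁ : Over.mk t ⟶ G := 1
  -- the two sections through the unit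
  let s₁ : G ⊗ Over.mk t ⟶ G ⊗ (G ⊗ Over.mk t) :=
    lift (fst _ _) (lift (snd _ _ ≫ e₁) (snd _ _))
  let s₂ : G ⊗ Over.mk t ⟶ G ⊗ (G ⊗ Over.mk t) := lift (snd _ _ ≫ e₁) (𝟙 _)
  have a₁ : s₁ ≫ actT (selfAction G) (Over.mk t) = 𝟙 _ := by
    apply CartesianMonoidalCategory.hom_ext
    · simp only [s₁, e₁, actT, selfAction_act, Category.assoc, lift_fst, Category.id_comp]
      rw [← Category.assoc, comp_lift, lift_fst, lift_snd_assoc, lift_fst]
      simp [← MonObj.mul_eq_mul, ← Hom.mul_def]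
    · simp [s₁, actT]
  have a₂ : s₂ ≫ actT (selfAction G) (Over.mk t) = 𝟙 _ := by
    apply CartesianMonoidalCategory.hom_ext
    · simp only [s₂, e₁, actT, selfAction_act, Category.assoc, lift_fst, Category.id_comp]
      rw [← Category.assoc, comp_lift, lift_fst, lift_snd_assoc, Category.id_comp]
      simp [← MonObj.mul_eq_mul, ← Hom.mul_def]
    · simp [s₂, actT]
  have p₁ : s₁ ≫ (G ◁ snd G (Over.mk t)) = 𝟙 _ := by
    apply CartesianMonoidalCategory.hom_ext <;> simp [s₁]
  have q₁ : s₁ ≫ snd G (G ⊗ Over.mk t) = snd G (Over.mk t) ≫ lift e₁ (𝟙 _) := by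
    apply CartesianMonoidalCategory.hom_ext <;> simp [s₁]
  have p₂ : s₂ ≫ (G ◁ snd G (Over.mk t)) = snd G (Over.mk t) ≫ lift e₁ (𝟙 _) := by
    apply CartesianMonoidalCategory.hom_ext <;> simp [s₂]
  have q₂ : s₂ ≫ snd G (G ⊗ Over.mk t) = 𝟙 _ := lift_snd _ _
  have pt : ∀ z : (G ⊗ Over.mk t).left,
      (snd G (Over.mk t) ≫ lift e₁ (𝟙 _)).left z = unitPt G t := fun z ↦
    congrArg (lift e₁ (𝟙 (Over.mk t))).left
      (Subsingleton.elim (α := ↥(Spec (CommRingCat.of K))) _ _)
  -- lift `u` above `(e, v)` and `v` above `(u, e)`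
  have h₁ : (G ◁ snd G (Over.mk t)).left (s₂.left v) = unitPt G t :=
    (congr(($p₂).left.base v)).trans (pt v)
  have h₁' : (snd G (G ⊗ Over.mk t)).left (s₂.left v) = v := congr(($q₂).left.base v)
  obtain ⟨w', hw', hwu⟩ := Flat.generalizingMap (G ◁ snd G (Over.mk t)).left (h₁.symm ▸ hue :)
  obtain ⟨w, hww', hw⟩ := exists_isMaxPt w'
  have hπu : (G ◁ snd G (Over.mk t)).left w = u :=
    hu _ (hwu ▸ hww'.map (G ◁ snd G (Over.mk t)).left.continuous)
  have hws : w ⤳ s₂.left v := hww'.trans hw'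
  have hπv : (snd G (G ⊗ Over.mk t)).left w = v :=
    hv _ ((hws.map (snd G (G ⊗ Over.mk t)).left.continuous).trans (specializes_of_eq h₁'))
  have h₂ : (snd G (G ⊗ Over.mk t)).left (s₁.left u) = unitPt G t :=
    (congr(($q₁).left.base u)).trans (pt u)
  have h₂' : (G ◁ snd G (Over.mk t)).left (s₁.left u) = u := congr(($p₁).left.base u)
  obtain ⟨z', hz', hzv⟩ := Flat.generalizingMap (snd G (G ⊗ Over.mk t)).left (h₂.symm ▸ hve :)
  obtain ⟨z, hzz', hz⟩ := exists_isMaxPt z'
  have hπv' : (snd G (G ⊗ Over.mk t)).left z = v :=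
    hv _ (hzv ▸ hzz'.map (snd G (G ⊗ Over.mk t)).left.continuous)
  have hzs : z ⤳ s₁.left u := hzz'.trans hz'
  have hπu' : (G ◁ snd G (Over.mk t)).left z = u :=
    hu _ ((hzs.map (G ◁ snd G (Over.mk t)).left.continuous).trans (specializes_of_eq h₂'))
  have hwz : w = z := IsMaxPt.eq_of_pullback (isPullback_projections G G (Over.mk t)) hw hz
    (f := (snd G (Over.mk t)).left) (g := (snd G (Over.mk t)).left)
    (hπu.trans hπu'.symm) (hπv.trans hπv'.symm)
  have hmax := hw.map_flat (actT (selfAction G) (Over.mk t)).left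
  have hA : (actT (selfAction G) (Over.mk t)).left w = v :=
    hv _ ((hws.map (actT (selfAction G) (Over.mk t)).left.continuous).trans
      (specializes_of_eq (congr(($a₂).left.base v))))
  have hB : (actT (selfAction G) (Over.mk t)).left z = u :=
    hu _ ((hzs.map (actT (selfAction G) (Over.mk t)).left.continuous).trans
      (specializes_of_eq (congr(($a₁).left.base u))))
  rw [← hA, hwz, hB]

/-- Every point of a geometric group has one maximal generalisation. -/
theorem uniqueMax_group' : UniqueMax (G ⊗ Over.mk t).left := by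
  intro p u v hu hv hup hvp
  let L := AlgebraicClosure ((G ⊗ Over.mk t).left.residueField p)
  let P : Spec (CommRingCat.of L) ⟶ (G ⊗ Over.mk t).left :=
    Spec.map (CommRingCat.ofHom (algebraMap ((G ⊗ Over.mk t).left.residueField p) L)) ≫
      (G ⊗ Over.mk t).left.fromSpecResidueField p
  let t' : Spec (CommRingCat.of L) ⟶ S := P ≫ (G ⊗ Over.mk t).hom
  let Pt : Over.mk t' ⟶ G ⊗ Over.mk t := Over.homMk P rfl
  let g : Over.mk t' ⟶ G := Pt ≫ fst _ _
  let σ : Over.mk t' ⟶ Over.mk t := Pt ≫ snd _ _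
  let pr : G ⊗ Over.mk t' ⟶ G ⊗ Over.mk t := G ◁ σ
  haveI : Flat σ.left := by
    haveI : Subsingleton ↥(Over.mk t).left := inferInstanceAs (Subsingleton ↥(Spec (CommRingCat.of K)))
    haveI : IsIntegral (Over.mk t).left := inferInstanceAs (IsIntegral (Spec (CommRingCat.of K)))
    infer_instance
  haveI : Flat pr.left :=
    MorphismProperty.of_isPullback (P := @Flat) (Groth.AlgGrp2.isPullback_whiskerLeft_snd G σ).flip ‹_›
  let Lg : G ⊗ Over.mk t' ≅ G ⊗ Over.mk t' :=
    { hom := lift ((snd _ _ ≫ g) * fst _ _) (snd _ _)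
      inv := lift ((snd _ _ ≫ g)⁻¹ * fst _ _) (snd _ _)
      hom_inv_id := by
        apply CartesianMonoidalCategory.hom_ext <;> simp [MonObj.comp_mul, GrpObj.comp_inv]
      inv_hom_id := by
        apply CartesianMonoidalCategory.hom_ext <;> simp [MonObj.comp_mul, GrpObj.comp_inv] }
  haveI : IsIso Lg.inv.left := ((Over.forget S).mapIso Lg).isIso_inv
  haveI : IsIso Lg.hom.left := ((Over.forget S).mapIso Lg).isIso_hom
  let p' := (lift g (𝟙 (Over.mk t'))).left (IsLocalRing.closedPoint L)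
  have hp' : pr.left p' = p := by
    have h : lift g (𝟙 (Over.mk t')) ≫ pr = Pt := by
      apply CartesianMonoidalCategory.hom_ext <;> simp [pr, g, σ]
    rw [← Scheme.Hom.comp_apply, ← Over.comp_left, h]
    exact Scheme.fromSpecResidueField_apply p _
  have hunit : Lg.inv.left p' = unitPt G t' := by
    have h : lift g (𝟙 (Over.mk t')) ≫ Lg.inv = lift (1 : Over.mk t' ⟶ G) (𝟙 _) := by
      apply CartesianMonoidalCategory.hom_ext <;> simp [Lg, MonObj.comp_mul, GrpObj.comp_inv]
    rw [← Scheme.Hom.comp_apply, ← Over.comp_left, h]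
  have key : ∀ {w : (G ⊗ Over.mk t).left}, IsMaxPt w → w ⤳ p →
      ∃ w' : (G ⊗ Over.mk t').left, IsMaxPt (Lg.inv.left w') ∧ Lg.inv.left w' ⤳ unitPt G t' ∧
        pr.left w' = w := by
    intro w hw hwp
    obtain ⟨w₁, hw₁, rfl⟩ := Flat.generalizingMap pr.left (hp'.symm ▸ hwp :)
    obtain ⟨w₂, hw₂, hmax⟩ := exists_isMaxPt w₁
    exact ⟨w₂, hmax.map_flat _, ((hw₂.trans hw₁).map Lg.inv.left.continuous).trans
      (specializes_of_eq hunit), hw _ (hw₂.map pr.left.continuous)⟩
  obtain ⟨u', hu', hue, rfl⟩ := key hu hup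
  obtain ⟨v', hv', hve, rfl⟩ := key hv hvp
  congr 1
  exact Lg.inv.left.isOpenEmbedding.injective (eq_of_specializes_unit hu' hv' hue hve)

variable (a : AlgGrp.Action G X) (hΦ : Surjective (lift a.act (snd G X)).left) (x : Over.mk t ⟶ X)

include hΦ in
/-- The orbit map carries maximal points to maximal points. -/
theorem isMaxPt_orb' {m : (G ⊗ Over.mk t).left} (hm : IsMaxPt m) :
    IsMaxPt ((orb a x).left m) := by
  set o := orb a x with ho
  haveI : Surjective o.left := MorphismProperty.of_isPullback (isPullback_orb a x) hΦ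
  obtain ⟨n, -, hn⟩ := exists_isMaxPt (o.left m)
  obtain ⟨z, hz⟩ := o.left.surjective n
  obtain ⟨m₀, hm₀z, hm₀⟩ := exists_isMaxPt z
  have hom₀ : o.left m₀ = n := hn _ (hz ▸ hm₀z.map o.left.continuous)
  obtain ⟨w₀, hw₀g, hw₀x⟩ := exists_pair G G m m₀
  obtain ⟨w', hw', -, hw'g, hw'x⟩ := exists_maxPair_le G G hm hm₀ hw₀g hw₀x
  let h' : G ⊗ (G ⊗ Over.mk t) ⟶ G := snd _ _ ≫ fst _ _
  let σ : G ⊗ (G ⊗ Over.mk t) ≅ G ⊗ (G ⊗ Over.mk t) :=
    { hom := lift (fst _ _ * h'⁻¹) (snd _ _)
      inv := lift (fst _ _ * h') (snd _ _)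
      hom_inv_id := by
        apply CartesianMonoidalCategory.hom_ext <;> simp [h', MonObj.comp_mul, GrpObj.comp_inv]
      inv_hom_id := by
        apply CartesianMonoidalCategory.hom_ext <;> simp [h', MonObj.comp_mul, GrpObj.comp_inv] }
  haveI : IsIso σ.hom.left := ((Over.forget S).mapIso σ).isIso_hom
  set w := σ.hom.left w' with hwdef
  have hw : IsMaxPt w := hw'.map_flat σ.hom.left
  have hwm₀ : (snd G (G ⊗ Over.mk t)).left w = m₀ := by
    rw [hwdef, ← Scheme.Hom.comp_apply, ← Over.comp_left, show σ.hom ≫ snd _ _ = snd _ _ from lift_snd _ _]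
    exact hw'x
  let Φ : G ⊗ (G ⊗ Over.mk t) ⟶ G ⊗ (X ⊗ Over.mk t) := G ◁ o
  have hπ : Φ ≫ (G ◁ snd X (Over.mk t)) = G ◁ snd G (Over.mk t) := by
    rw [show Φ = G ◁ o from rfl, ← MonoidalCategory.whiskerLeft_comp, ho, orb, lift_snd]
  set m₁ := (G ◁ snd G (Over.mk t)).left w with hm₁
  have hm₁max : IsMaxPt m₁ := hw.map_flat _
  have hqg : (G ◁ snd X (Over.mk t)).left (Φ.left w) = m₁ := congr(($hπ).left.base w)
  have hqx : (snd G (X ⊗ Over.mk t)).left (Φ.left w) = n := by
    rw [← Scheme.Hom.comp_apply, ← Over.comp_left,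
      show Φ ≫ snd _ _ = snd _ _ ≫ o from whiskerLeft_snd _ _, Over.comp_left, Scheme.Hom.comp_apply,
      hwm₀, hom₀]
  obtain ⟨n', hn', hn'q, hn'g, hn'x⟩ := exists_maxPair_le G X hm₁max hn hqg hqx
  obtain ⟨w'', hw''Φ, hw''x⟩ := exists_preimage_of_isPullback
    (Groth.AlgGrp2.isPullback_whiskerLeft_snd G o) n' m₀ (hn'x.trans hom₀.symm)
  have hw''g : (G ◁ snd G (Over.mk t)).left w'' = m₁ := by
    rw [← hπ, Over.comp_left, Scheme.Hom.comp_apply, hw''Φ, hn'g]
  obtain ⟨w₃, hw₃, hw₃w, hw₃g, hw₃x⟩ := exists_maxPair_le G G hm₁max hm₀ hw''g hw''x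
  have e3 : w = w₃ := IsMaxPt.eq_of_pullback (isPullback_projections G G (Over.mk t)) hw hw₃
    (f := (snd G (Over.mk t)).left) (g := (snd G (Over.mk t)).left) hw₃g.symm (hwm₀.trans hw₃x.symm)
  have hq : Φ.left w = n' := hn' _ (by
    have := (hw₃w.map Φ.left.continuous)
    rw [hw''Φ] at this
    exact e3 ▸ this)
  obtain ⟨i, hi⟩ := exists_iso_actT a (Over.mk t)
  haveI : Flat (actT a (Over.mk t)).left := by rw [← hi, Over.comp_left]; infer_instance
  have key : σ.hom ≫ Φ ≫ actT a (Over.mk t) = (G ◁ snd G (Over.mk t)) ≫ o := by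
    apply CartesianMonoidalCategory.hom_ext
    · simp only [σ, h', Φ, ho, orb, actT, Category.assoc, lift_fst]
      simp only [← Category.assoc, comp_lift, whiskerLeft_fst, whiskerLeft_snd, lift_fst, lift_snd]
      simp only [Category.assoc, lift_fst]
      simp only [← Category.assoc, comp_lift, whiskerLeft_fst, whiskerLeft_snd, lift_fst, lift_snd]
      rw [← Groth.AlgGrp2.lift_mul_act]
      simp [MonObj.comp_mul, GrpObj.comp_inv]
    · simp [σ, Φ, ho, orb, actT]
  have hfin : o.left m = (actT a (Over.mk t)).left n' := by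
    rw [← hq, hwdef, ← Scheme.Hom.comp_apply, ← Over.comp_left, ← Scheme.Hom.comp_apply,
      ← Over.comp_left, key, Over.comp_left, Scheme.Hom.comp_apply, hw'g]
  rw [hfin]
  exact hn'.map_flat _

end Groth.GrpschSep
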