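import Groth.Agent.GrpschSep.Homogeneous
import Groth.Agent.DescentBase.ClosureRange
import Mathlib.FieldTheory.IsAlgClosed.AlgebraicClosure

/-!
Fibres of schemes with a transitive action: the maximal points, and irreducibility of connected
quasi-separated fibres.
-/

set_option autoImplicit false
universe u

open CategoryTheory CategoryTheory.Limits MonoidalCategory CartesianMonoidalCategory MonObj GrpObj
  AlgebraicGeometry

namespace Groth.GrpschSep

variable {S : Scheme.{u}} {G X : Over S} [GrpObj G]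

/-- The map from a base change to a field to the fibre. -/
theorem exists_toFibre (Y : Over S) {K : Type u} [Field K] (t : Spec (CommRingCat.of K) ⟶ S) (s : S)
    (σ : Spec (CommRingCat.of K) ⟶ Spec (S.residueField s))
    (hσ : σ ≫ S.fromSpecResidueField s = t) :
    ∃ q : (Y ⊗ Over.mk t).left ⟶ Y.hom.fiber s, q ≫ Y.hom.fiberι s = (fst Y (Over.mk t)).left ∧
      Flat q ∧ Surjective q ∧ UniversallyOpen q := by
  let q : (Y ⊗ Over.mk t).left ⟶ Y.hom.fiber s :=
    pullback.lift (fst Y (Over.mk t)).left ((snd Y (Over.mk t)).left ≫ σ) (by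
      rw [Category.assoc, hσ]; exact (Groth.AlgGrp2.isPullback_fst_snd Y (Over.mk t)).w)
  have hq₁ : q ≫ Y.hom.fiberι s = (fst Y (Over.mk t)).left := pullback.lift_fst _ _ _
  have hq : IsPullback q (snd Y (Over.mk t)).left (Y.hom.fiberToSpecResidueField s) σ := by
    refine IsPullback.of_right ?_ (pullback.lift_snd _ _ _)
      (IsPullback.of_hasPullback Y.hom (S.fromSpecResidueField s))
    rw [hσ]
    exact hq₁ ▸ Groth.AlgGrp2.isPullback_fst_snd Y (Over.mk t)
  haveI : Surjective σ := ⟨fun p ↦ ⟨IsLocalRing.closedPoint K, Subsingleton.elim _ _⟩⟩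
  exact ⟨q, hq₁, MorphismProperty.of_isPullback hq.flip inferInstance,
    MorphismProperty.of_isPullback hq.flip inferInstance,
    MorphismProperty.of_isPullback hq.flip inferInstance⟩

instance lft_snd_geom [LocallyOfFiniteType G.hom] (T : Over S) : LocallyOfFiniteType (snd G T).left :=
  MorphismProperty.of_isPullback (Groth.AlgGrp2.isPullback_fst_snd G T) ‹_›

/-- The component of the unit in a geometric fibre. -/
theorem exists_unit_component {K : Type u} [Field K] [IsAlgClosed K]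
    (t : Spec (CommRingCat.of K) ⟶ S) [LocallyOfFiniteType (snd G (Over.mk t)).left] :
    ∃ (C : Set (G ⊗ Over.mk t).left) (m₀ : (G ⊗ Over.mk t).left), IsOpen C ∧
      (lift (1 : Over.mk t ⟶ G) (𝟙 _)).left (IsLocalRing.closedPoint K) ∈ C ∧
      ∀ g ∈ C, ∀ m, IsMaxPt m → m ⤳ g → m = m₀ := by
  obtain ⟨F, _, e, he⟩ := grp_geom (G := G) (t := t)
  haveI : LocallyOfFiniteType F.hom := he ▸ inferInstance
  set e₁ := (lift (1 : Over.mk t ⟶ G) (𝟙 _)).left (IsLocalRing.closedPoint K)
  let C₀ := connectedComponent (e.inv e₁)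
  obtain ⟨m, hm⟩ := QuasiSober.sober (Groth.GrpschAbsch.isIrreducible_connectedComponent F (e.inv e₁))
    isClosed_connectedComponent
  refine ⟨e.inv ⁻¹' C₀, e.hom m,
    (Groth.GrpschAbsch.isOpen_connectedComponent' F _).preimage e.inv.continuous,
    mem_connectedComponent, fun g hg n hn hng ↦ ?_⟩
  have hnC : e.inv n ∈ C₀ := (hng.map e.inv.continuous).mem_open
    (Groth.GrpschAbsch.isOpen_connectedComponent' F _) hg
  have h := (hn.map_flat e.inv) m (specializes_iff_mem_closure.mpr (hm.def.ge hnC))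
  rw [h, ← Scheme.Hom.comp_apply, Iso.inv_hom_id]
  rfl

variable [LocallyOfFiniteType G.hom] (a : AlgGrp.Action G X)
  (hΦ : Surjective (lift a.act (snd G X)).left)

include hΦ in
/-- A geometric point of the base over which every point of `X` has one maximal generalisation. -/
theorem exists_uniqueMax_point (s : S) [Nonempty ↥(X.hom.fiber s)] :
    ∃ (K : Type u) (_ : Field K) (_ : IsAlgClosed K) (t : Spec (CommRingCat.of K) ⟶ S)
      (σ : Spec (CommRingCat.of K) ⟶ Spec (S.residueField s)),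
      σ ≫ S.fromSpecResidueField s = t ∧ UniqueMax (X ⊗ Over.mk t).left := by
  let K₀ := AlgebraicClosure (S.residueField s)
  let σ₀ : Spec (CommRingCat.of K₀) ⟶ Spec (S.residueField s) :=
    Spec.map (CommRingCat.ofHom (algebraMap (S.residueField s) K₀))
  let t₀ := σ₀ ≫ S.fromSpecResidueField s
  obtain ⟨q₀, -, _, hs₀, -⟩ := exists_toFibre X t₀ s σ₀ rfl
  obtain ⟨z₀⟩ := ‹Nonempty ↥(X.hom.fiber s)›
  obtain ⟨y₀, -⟩ := q₀.surjective z₀
  obtain ⟨η₀, -, hη₀⟩ := exists_isMaxPt y₀
  let K := AlgebraicClosure ((X ⊗ Over.mk t₀).left.residueField η₀)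
  let j : Spec (CommRingCat.of K) ⟶ (X ⊗ Over.mk t₀).left :=
    Spec.map (CommRingCat.ofHom (algebraMap ((X ⊗ Over.mk t₀).left.residueField η₀) K)) ≫
      (X ⊗ Over.mk t₀).left.fromSpecResidueField η₀
  let e : Spec (CommRingCat.of K) ⟶ Spec (CommRingCat.of K₀) := j ≫ (snd X (Over.mk t₀)).left
  let t : Spec (CommRingCat.of K) ⟶ S := e ≫ t₀
  let e' : Over.mk t ⟶ Over.mk t₀ := Over.homMk e rfl
  let x : Over.mk t ⟶ X := Over.homMk (j ≫ (fst X (Over.mk t₀)).left) (by
    show (j ≫ _) ≫ X.hom = t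
    rw [Category.assoc, (Groth.AlgGrp2.isPullback_fst_snd X (Over.mk t₀)).w, ← Category.assoc]
    rfl)
  refine ⟨K, inferInstance, inferInstance, t, e ≫ σ₀, by rw [Category.assoc], ?_⟩
  refine uniqueMax_of_point a hΦ x fun u v hu hv hux hvx ↦ ?_
  let r := (X ◁ e').left
  have sq := Groth.AlgGrp2.isPullback_whiskerLeft_snd X e'
  haveI : Subsingleton ↥(Over.mk t₀).left := inferInstanceAs (Subsingleton ↥(Spec (CommRingCat.of K₀)))
  haveI : IsIntegral (Over.mk t₀).left := inferInstanceAs (IsIntegral (Spec (CommRingCat.of K₀)))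
  haveI : Flat r := MorphismProperty.of_isPullback sq.flip inferInstance
  have hz : r ((lift x (𝟙 (Over.mk t))).left (IsLocalRing.closedPoint K)) = η₀ := by
    have h : (lift x (𝟙 (Over.mk t)) ≫ X ◁ e').left = j := by
      apply (Groth.AlgGrp2.isPullback_fst_snd X (Over.mk t₀)).hom_ext
      · rw [← Over.comp_left]; simp only [Category.assoc, whiskerLeft_fst, lift_fst]; rfl
      · rw [← Over.comp_left]; simp only [Category.assoc, whiskerLeft_snd, lift_snd_assoc,
          Category.id_comp]; rfl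
    show (lift x (𝟙 (Over.mk t)) ≫ X ◁ e').left _ = η₀
    rw [h]
    exact Scheme.fromSpecResidueField_apply η₀ _
  have hru : r u = η₀ := hη₀ _ ((hux.map r.continuous).trans (specializes_of_eq hz))
  have hrv : r v = η₀ := hη₀ _ ((hvx.map r.continuous).trans (specializes_of_eq hz))
  exact IsMaxPt.eq_of_pullback (K := K₀) (f := (snd X (Over.mk t₀)).left) (g := e'.left) sq hu hv
    (hru.trans hrv.symm) (Subsingleton.elim (α := ↥(Spec (CommRingCat.of K))) _ _)

include hΦ in
/-- In a fibre each point has one maximal generalisation. -/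
theorem uniqueMax_fibre (s : S) : UniqueMax ↥(X.hom.fiber s) := by
  rcases isEmpty_or_nonempty ↥(X.hom.fiber s) with h | h
  · intro p; exact isEmptyElim p
  obtain ⟨K, _, _, t, σ, hσ, hU⟩ := exists_uniqueMax_point a hΦ s
  obtain ⟨q, -, _, _, -⟩ := exists_toFibre X t s σ hσ
  exact hU.descend q

include hΦ in
/-- The union of the components through the maximal points of an open is open. -/
theorem isOpen_specSet (s : S) (U : Set ↥(X.hom.fiber s)) (hU : IsOpen U) :
    IsOpen {p : ↥(X.hom.fiber s) | ∃ m, IsMaxPt m ∧ m ⤳ p ∧ m ∈ U} := by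
  rcases isEmpty_or_nonempty ↥(X.hom.fiber s) with h | h
  · rw [Set.eq_empty_of_isEmpty {p : ↥(X.hom.fiber s) | ∃ m, IsMaxPt m ∧ m ⤳ p ∧ m ∈ U}]
    exact isOpen_empty
  obtain ⟨K, _, _, t, σ, hσ, huX⟩ := exists_uniqueMax_point a hΦ s
  obtain ⟨q, -, _, _, _⟩ := exists_toFibre X t s σ hσ
  have huF := uniqueMax_fibre a hΦ s
  set D := {p : ↥(X.hom.fiber s) | ∃ m, IsMaxPt m ∧ m ⤳ p ∧ m ∈ U}
  let U₁ : Set (X ⊗ Over.mk t).left := q ⁻¹' U
  have hU₁ : IsOpen U₁ := hU.preimage q.continuous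
  set D₁ := {p : (X ⊗ Over.mk t).left | ∃ m, IsMaxPt m ∧ m ⤳ p ∧ m ∈ U₁}
  have hDD : q ⁻¹' D = D₁ := by
    ext p
    constructor
    · rintro ⟨m, hm, hmp, hmU⟩
      obtain ⟨n, hnp, hn⟩ := exists_isMaxPt p
      exact ⟨n, hn, hnp, show q n ∈ U from
        (huF _ _ _ hm (hn.map_flat q) hmp (hnp.map q.continuous)) ▸ hmU⟩
    · rintro ⟨m, hm, hmp, hmU⟩
      exact ⟨q m, hm.map_flat q, hmp.map q.continuous, hmU⟩
  suffices hD₁ : IsOpen D₁ by
    rw [← Set.image_preimage_eq D q.surjective, hDD]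
    exact q.isOpenMap _ hD₁
  obtain ⟨C, m₀, hC, he₁, hC₀⟩ := exists_unit_component (G := G) t
  obtain ⟨φ, hφ⟩ := exists_iso_actT a (Over.mk t)
  haveI : IsIso φ.hom.left := ((Over.forget S).mapIso φ).isIso_hom
  haveI : Flat (actT a (Over.mk t)).left := by rw [← hφ, Over.comp_left]; infer_instance
  haveI : UniversallyOpen (actT a (Over.mk t)).left := by
    rw [← hφ, Over.comp_left]; infer_instance
  set A := (G ◁ snd X (Over.mk t)).left ⁻¹' C ∩ (snd G (X ⊗ Over.mk t)).left ⁻¹' U₁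
  have hA : IsOpen A := (hC.preimage (G ◁ snd X (Over.mk t)).left.continuous).inter
    (hU₁.preimage (snd G (X ⊗ Over.mk t)).left.continuous)
  suffices D₁ = (actT a (Over.mk t)).left '' A by
    rw [this]; exact (actT a (Over.mk t)).left.isOpenMap _ hA
  ext p
  constructor
  · rintro ⟨m, hm, hmp, hmU⟩
    let K₂ := AlgebraicClosure ((X ⊗ Over.mk t).left.residueField p)
    let j : Spec (CommRingCat.of K₂) ⟶ (X ⊗ Over.mk t).left :=
      Spec.map (CommRingCat.ofHom (algebraMap ((X ⊗ Over.mk t).left.residueField p) K₂)) ≫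
        (X ⊗ Over.mk t).left.fromSpecResidueField p
    let e : Spec (CommRingCat.of K₂) ⟶ Spec (CommRingCat.of K) := j ≫ (snd X (Over.mk t)).left
    let T₂ : Over S := Over.mk (e ≫ t)
    let e' : T₂ ⟶ Over.mk t := Over.homMk e rfl
    let pp : T₂ ⟶ X ⊗ Over.mk t := Over.homMk j (by
      show j ≫ (X ⊗ Over.mk t).hom = e ≫ t
      rw [← Over.w (snd X (Over.mk t))]
      exact (Category.assoc _ _ _).symm)
    let x : T₂ ⟶ X := pp ≫ fst X (Over.mk t)
    let o := orb a x
    let Ψ : G ⊗ T₂ ⟶ G ⊗ (X ⊗ Over.mk t) :=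
      lift ((fst G T₂)⁻¹) (o ≫ X ◁ e')
    obtain ⟨ξ, hξ1, hξ⟩ := exists_isMaxPt ((lift (1 : T₂ ⟶ G) (𝟙 T₂)).left (IsLocalRing.closedPoint K₂))
    have hact : Ψ ≫ actT a (Over.mk t) = snd G T₂ ≫ pp := by
      apply CartesianMonoidalCategory.hom_ext
      · simp only [Ψ, o, orb, x, actT, Category.assoc, lift_fst]
        rw [← Category.assoc, comp_lift, lift_fst, lift_snd_assoc, Category.assoc, whiskerLeft_fst,
          lift_fst, Groth.AlgGrp2.lift_inv_act]
      · simp only [Ψ, o, orb, x, actT, Category.assoc, lift_snd, lift_snd_assoc, whiskerLeft_snd]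
        congr 1
    have hp₂ : ((Ψ ≫ actT a (Over.mk t)).left) ξ = p := by
      rw [hact]
      exact Scheme.fromSpecResidueField_apply p _
    haveI : Flat (X ◁ e').left :=
      haveI : Subsingleton ↥(Over.mk t).left := inferInstanceAs (Subsingleton ↥(Spec (CommRingCat.of K)))
      haveI : IsIntegral (Over.mk t).left := inferInstanceAs (IsIntegral (Spec (CommRingCat.of K)))
      MorphismProperty.of_isPullback (Groth.AlgGrp2.isPullback_whiskerLeft_snd X e').flip inferInstance
    refine ⟨Ψ.left ξ, ⟨?_, ?_⟩, hp₂⟩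
    · have h1 : (lift (1 : T₂ ⟶ G) (𝟙 T₂) ≫ Ψ ≫ G ◁ snd X (Over.mk t)) =
          e' ≫ lift (1 : Over.mk t ⟶ G) (𝟙 _) := by
        apply CartesianMonoidalCategory.hom_ext
        · simp [Ψ, GrpObj.comp_inv]
        · simp [Ψ, o, orb]
      have h2 : (Ψ ≫ G ◁ snd X (Over.mk t)).left ξ ⤳
          (lift (1 : Over.mk t ⟶ G) (𝟙 _)).left (IsLocalRing.closedPoint K) := by
        refine (hξ1.map (Ψ ≫ G ◁ snd X (Over.mk t)).left.continuous).trans (specializes_of_eq ?_)
        refine (congr(($h1).left.base (IsLocalRing.closedPoint K₂))).trans ?_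
        exact congrArg (lift (1 : Over.mk t ⟶ G) (𝟙 _)).left
          (Subsingleton.elim (α := ↥(Spec (CommRingCat.of K))) _ _)
      exact h2.mem_open hC he₁
    · have hmax : IsMaxPt ((X ◁ e').left (o.left ξ)) := (isMaxPt_orb a hΦ x hξ).map_flat _
      have h1 : lift (1 : T₂ ⟶ G) (𝟙 T₂) ≫ o ≫ X ◁ e' = pp := by
        apply CartesianMonoidalCategory.hom_ext
        · simp only [o, orb, x, Category.assoc, whiskerLeft_fst, lift_fst]
          rw [← Category.assoc, comp_lift, lift_fst, lift_snd_assoc, Category.id_comp,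
            Groth.AlgGrp2.lift_one_act]
        · simp only [o, orb, Category.assoc, whiskerLeft_snd, lift_snd_assoc, Category.id_comp]
          exact Over.OverMorphism.ext rfl
      have h2 : (o ≫ X ◁ e').left ξ ⤳ p := by
        refine (hξ1.map (o ≫ X ◁ e').left.continuous).trans (specializes_of_eq ?_)
        exact (congr(($h1).left.base (IsLocalRing.closedPoint K₂))).trans
          (Scheme.fromSpecResidueField_apply p _)
      show (Ψ ≫ snd G (X ⊗ Over.mk t)).left ξ ∈ U₁
      rw [show Ψ ≫ snd G (X ⊗ Over.mk t) = o ≫ X ◁ e' from lift_snd _ _]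
      exact (huX p _ _ hm hmax hmp h2) ▸ hmU
  · rintro ⟨w, ⟨hw₁, hw₂⟩, rfl⟩
    obtain ⟨w'', hww, hw''⟩ := exists_isMaxPt w
    let n := (snd G (X ⊗ Over.mk t)).left w''
    have hn : IsMaxPt n := hw''.map_flat _
    have hnU : n ∈ U₁ := (hww.map (snd G (X ⊗ Over.mk t)).left.continuous).mem_open hU₁ hw₂
    let ε : X ⊗ Over.mk t ⟶ G ⊗ (X ⊗ Over.mk t) := lift 1 (𝟙 _)
    obtain ⟨w₃, hw₃, hw₃m⟩ := exists_isMaxPt (ε.left n)
    have e1 : (G ◁ snd X (Over.mk t)).left w'' = m₀ :=
      hC₀ _ hw₁ _ (hw''.map_flat _) (hww.map (G ◁ snd X (Over.mk t)).left.continuous)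
    have e2 : (G ◁ snd X (Over.mk t)).left w₃ = m₀ := by
      refine hC₀ _ he₁ _ (hw₃m.map_flat _) ((hw₃.map (G ◁ snd X (Over.mk t)).left.continuous).trans
        (specializes_of_eq ?_))
      have h : ε ≫ G ◁ snd X (Over.mk t) = snd X (Over.mk t) ≫ lift 1 (𝟙 _) := by
        apply CartesianMonoidalCategory.hom_ext <;> simp [ε]
      exact (congr(($h).left.base n)).trans (congrArg (lift (1 : Over.mk t ⟶ G) (𝟙 _)).left
        (Subsingleton.elim (α := ↥(Spec (CommRingCat.of K))) _ _))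
    have e3 : (snd G (X ⊗ Over.mk t)).left w₃ = n :=
      hn _ ((hw₃.map (snd G (X ⊗ Over.mk t)).left.continuous).trans
        (specializes_of_eq (congr(($(lift_snd (1 : X ⊗ Over.mk t ⟶ G) (𝟙 _))).left.base n))))
    have e4 : w₃ = w'' := IsMaxPt.eq_of_pullback (isPullback_projections G X (Over.mk t)) hw₃m hw''
      (f := (snd G (Over.mk t)).left) (g := (snd X (Over.mk t)).left) (e2.trans e1.symm) e3
    have h : ε ≫ actT a (Over.mk t) = 𝟙 _ := by
      apply CartesianMonoidalCategory.hom_ext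
      · simp only [ε, actT, Category.assoc, lift_fst]
        rw [← Category.assoc, comp_lift, lift_fst, lift_snd_assoc, Category.id_comp,
          Groth.AlgGrp2.lift_one_act]
      · simp [ε, actT]
    have e5 : (actT a (Over.mk t)).left w'' = n := hn _ (e4 ▸
      (hw₃.map (actT a (Over.mk t)).left.continuous).trans (specializes_of_eq (congr(($h).left.base n))))
    exact ⟨n, hn, e5 ▸ hww.map (actT a (Over.mk t)).left.continuous, hnU⟩

include hΦ in
/-- A connected quasi-separated fibre has a generic point. -/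
theorem exists_generic_fibre (s : S) [QuasiSeparatedSpace ↥(X.hom.fiber s)]
    [PreconnectedSpace ↥(X.hom.fiber s)] [Nonempty ↥(X.hom.fiber s)] :
    ∃ n : ↥(X.hom.fiber s), ∀ p, n ⤳ p := by
  set F := X.hom.fiber s
  have hu := uniqueMax_fibre a hΦ s
  have key : ∀ (U : F.Opens), IsAffineOpen U → (U : Set F).Nonempty →
      ∀ m, IsMaxPt m → m ∈ U := by
    intro U hUa ⟨u, hu'⟩ m hm
    set D := {p : F | ∃ n, IsMaxPt n ∧ n ⤳ p ∧ n ∈ (U : Set F)}
    haveI : CompactSpace U.toScheme := isCompact_iff_compactSpace.mp hUa.isCompact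
    have hDc : D = closure (U : Set F) := by
      refine Set.Subset.antisymm ?_ ?_
      · rintro p ⟨n, -, hnp, hnU⟩
        exact hnp.mem_closed isClosed_closure (subset_closure hnU)
      · intro p hp
        rw [← U.range_ι] at hp
        obtain ⟨y, hy⟩ := Groth.DescentBase.exists_specializes_of_mem_closure_range U.ι hp
        obtain ⟨n, hn, hnm⟩ := exists_isMaxPt (U.ι y)
        exact ⟨n, hnm, hn.trans hy, hn.mem_open U.2 y.2⟩
    have hclop : IsClopen D := ⟨hDc ▸ isClosed_closure, isOpen_specSet a hΦ s U U.2⟩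
    obtain ⟨n, hn, hnm, hnU⟩ := (hclop.eq_univ ⟨u, hDc ▸ subset_closure hu'⟩).ge (Set.mem_univ m)
    exact hm n hnm ▸ hnU
  obtain ⟨z⟩ := ‹Nonempty ↥F›
  obtain ⟨n, -, hn⟩ := exists_isMaxPt z
  refine ⟨n, fun p ↦ ?_⟩
  obtain ⟨m, hmp, hm⟩ := exists_isMaxPt p
  suffices n ⤳ m from this.trans hmp
  rw [specializes_iff_forall_open]
  intro O hO hmO
  obtain ⟨_, ⟨U : F.Opens, hUa, rfl⟩, hmU, hUO⟩ := F.isBasis_affineOpens.exists_subset_of_mem_open hmO hO
  exact hUO (key U hUa ⟨m, hmU⟩ n hn)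

end Groth.GrpschSep
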