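import Groth.Agent.GrpschSep.Transitive
import Groth.Agent.GrpschSep.HomogeneousFibre

/-!
A scheme with a transitive action and connected quasi-separated fibres is separated, and
quasi-compact if it has a quasi-compact open meeting every fibre.
-/

set_option autoImplicit false
universe u

open CategoryTheory CategoryTheory.Limits MonoidalCategory CartesianMonoidalCategory MonObj GrpObj
  AlgebraicGeometry

namespace Groth.GrpschSep

variable {S : Scheme.{u}} {G X : Over S} [GrpObj G] [LocallyOfFiniteType G.hom]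
  (a : AlgGrp.Action G X) (hΦ : Surjective (lift a.act (snd G X)).left)
  (hqs : ∀ s : S, QuasiSeparatedSpace ↥(X.hom.fiber s))
  (hconn : ∀ s : S, PreconnectedSpace ↥(X.hom.fiber s))

include hΦ hqs hconn in
/-- An open meeting a fibre has dense translates there. -/
theorem dense_preimage_open {K : Type u} [Field K] [IsAlgClosed K]
    (t : Spec (CommRingCat.of K) ⟶ S) (U : X.left.Opens)
    (hU : ∃ y : X.left, X.hom y = t (IsLocalRing.closedPoint K) ∧ y ∈ U) (w : Over.mk t ⟶ X) :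
    Dense ((orb a w).left.base ⁻¹' ((fst X (Over.mk t)).left ⁻¹' (U : Set X.left))) := by
  obtain ⟨y, hy, hyU⟩ := hU
  set s := t (IsLocalRing.closedPoint K)
  haveI := hqs s
  haveI := hconn s
  obtain ⟨y', hy'⟩ := (X.hom.range_fiberι s).ge hy
  haveI : Nonempty ↥(X.hom.fiber s) := ⟨y'⟩
  obtain ⟨n₀, hn₀⟩ := exists_generic_fibre a hΦ s
  let σ : Spec (CommRingCat.of K) ⟶ Spec (S.residueField s) :=
    Spec.map (Scheme.descResidueField (Scheme.stalkClosedPointTo t))
  obtain ⟨q, hq, _, _, _⟩ := exists_toFibre X t s σ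
    (Scheme.descResidueField_stalkClosedPointTo_fromSpecResidueField K S t)
  refine dense_preimage_orb_of_max a hΦ w fun n hn ↦ ?_
  show (fst X (Over.mk t)).left n ∈ U
  rw [← hq, Scheme.Hom.comp_apply, ← (hn.map_flat q) n₀ (hn₀ _)]
  exact ((hn₀ y').map (X.hom.fiberι s).continuous).mem_open U.2 (hy'.symm ▸ hyU)

variable (W : G.left.Opens) (hW : ∀ p : ↥(𝟙_ (Over S)).left, η[G].left.base p ∈ W)

include hΦ hqs hconn hW in
/-- Separatedness. -/
theorem isSeparated_of_connected (hWo : UniversallyOpen (W.ι ≫ G.hom)) : IsSeparated X.hom := by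
  refine isSeparated_of_dense a W hW hWo fun s ↦ ?_
  by_cases h : ∃ y : X.left, X.hom y = s
  · obtain ⟨y, hy⟩ := h
    obtain ⟨_, ⟨U : X.left.Opens, hUa, rfl⟩, hyU, -⟩ :=
      X.left.isBasis_affineOpens.exists_subset_of_mem_open (Set.mem_univ y) isOpen_univ
    refine ⟨U, ?_, fun K _ _ t hts w ↦
      dense_preimage_open a hΦ hqs hconn t U ⟨y, hts ▸ hy, hyU⟩ w⟩
    have : IsAffine U.toScheme := hUa
    infer_instance
  · refine ⟨⊥, ?_, fun K _ _ t hts w ↦ ?_⟩
    · have : IsEmpty (⊥ : X.left.Opens).toScheme := ⟨fun x ↦ x.2.elim⟩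
      infer_instance
    · exact (h ⟨w.left (IsLocalRing.closedPoint K),
        (congr(($(Over.w w)).base (IsLocalRing.closedPoint K))).trans hts⟩).elim

include hΦ hqs hconn hW in
/-- Quasi-compactness. -/
theorem quasiCompact_of_open (V : X.left.Opens) (hV : QuasiCompact (V.ι ≫ X.hom))
    (hmeet : ∀ s : S, (X.hom.base ⁻¹' {s}).Nonempty →
      ((V : Set X.left) ∩ X.hom.base ⁻¹' {s}).Nonempty) :
    QuasiCompact X.hom := by
  rw [quasiCompact_iff_forall_isAffineOpen]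
  intro V₀ hV₀
  have hec : IsCompact (η[G].left '' ((𝟙_ (Over S)).hom ⁻¹' (V₀ : Set S))) :=
    (show IsCompact ((𝟙_ (Over S)).hom ⁻¹' (V₀ : Set S)) from hV₀.isCompact).image η[G].left.continuous
  have hcov : η[G].left '' ((𝟙_ (Over S)).hom ⁻¹' (V₀ : Set S)) ⊆
      ⋃ A : {A : G.left.Opens // IsAffineOpen A ∧ A ≤ G.hom ⁻¹ᵁ V₀}, (A.1 : Set G.left) := by
    rintro _ ⟨p, hp, rfl⟩
    have hmem : η[G].left p ∈ G.hom ⁻¹ᵁ V₀ := by
      show (η[G].left ≫ G.hom) p ∈ V₀
      rw [Over.w η[G]]; exact hp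
    obtain ⟨_, ⟨A : G.left.Opens, hA, rfl⟩, hpA, hAV⟩ :=
      G.left.isBasis_affineOpens.exists_subset_of_mem_open hmem (G.hom ⁻¹ᵁ V₀).2
    exact Set.mem_iUnion.mpr ⟨⟨A, hA, hAV⟩, hpA⟩
  obtain ⟨F, hF⟩ := hec.elim_finite_subcover _ (fun A ↦ A.1.2) hcov
  have hVc : IsCompact ((V : Set X.left) ∩ X.hom ⁻¹' (V₀ : Set S)) := by
    have h := (quasiCompact_iff_forall_isAffineOpen.mp hV V₀ hV₀).image V.ι.continuous
    convert h using 1
    ext y
    constructor
    · rintro ⟨hy, hy0⟩; exact ⟨⟨y, hy⟩, hy0, rfl⟩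
    · rintro ⟨z, hz, rfl⟩; exact ⟨z.2, hz⟩
  obtain ⟨E, hE⟩ := hVc.elim_finite_subcover
    (fun B : {B : X.left.Opens // IsAffineOpen B ∧ B ≤ X.hom ⁻¹ᵁ V₀} ↦ (B.1 : Set X.left))
    (fun B ↦ B.1.2) (fun y hy ↦ by
      obtain ⟨_, ⟨B : X.left.Opens, hB, rfl⟩, hyB, hBV⟩ :=
        X.left.isBasis_affineOpens.exists_subset_of_mem_open (show y ∈ X.hom ⁻¹ᵁ V₀ from hy.2)
          (X.hom ⁻¹ᵁ V₀).2
      exact Set.mem_iUnion.mpr ⟨⟨B, hB, hBV⟩, hyB⟩)
  let objG : G.left.Opens → Over S := fun A ↦ Over.mk (A.ι ≫ G.hom)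
  let objX : X.left.Opens → Over S := fun B ↦ Over.mk (B.ι ≫ X.hom)
  let incG : ∀ A, objG A ⟶ G := fun A ↦ Over.homMk A.ι rfl
  let incX : ∀ B, objX B ⟶ X := fun B ↦ Over.homMk B.ι rfl
  let back : ∀ A B, objG A ⊗ objX B ⟶ X := fun A B ↦
    lift ((fst _ _ ≫ incG A)⁻¹) (snd _ _ ≫ incX B) ≫ a.act
  have heq : (X.hom ⁻¹ᵁ V₀ : Set X.left) = ⋃ A ∈ F, ⋃ B ∈ E, Set.range (back A.1 B.1).left := by
    refine Set.Subset.antisymm (fun y hy ↦ ?_) (fun y hy ↦ ?_)
    · let K := AlgebraicClosure (X.left.residueField y)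
      let t₀ : Spec (CommRingCat.of K) ⟶ X.left :=
        Spec.map (CommRingCat.ofHom (algebraMap (X.left.residueField y) K)) ≫
          X.left.fromSpecResidueField y
      let T : Over S := Over.mk (t₀ ≫ X.hom)
      let x : T ⟶ X := Over.homMk t₀ rfl
      let pt : Spec (CommRingCat.of K) := IsLocalRing.closedPoint K
      have hts : (t₀ ≫ X.hom) pt = X.hom y := congrArg X.hom (Scheme.fromSpecResidueField_apply y _)
      obtain ⟨v, hvV, hv⟩ := hmeet (X.hom y) ⟨y, rfl⟩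
      have hd := dense_preimage_open a hΦ hqs hconn (t₀ ≫ X.hom) V ⟨v, hv.trans hts.symm, hvV⟩ x
      obtain ⟨A, hAF, hA⟩ : ∃ A ∈ F, (1 : T ⟶ G).left pt ∈ A.1 := by
        have := hF ⟨(toUnit T).left pt, show ((toUnit T).left ≫ (𝟙_ (Over S)).hom) pt ∈ V₀ by
          rw [Over.w (toUnit T)]; exact hts.symm ▸ hy, rfl⟩
        obtain ⟨A, hAF, hA⟩ := Set.mem_iUnion₂.mp this
        exact ⟨A, hAF, hA⟩
      obtain ⟨w, hwA, hwV⟩ := hd.inter_open_nonempty _ (A.1.2.preimage (fst G T).left.continuous)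
        ⟨(lift (1 : T ⟶ G) (𝟙 T)).left pt, by
          show (fst G T).left _ ∈ A.1
          rw [← Scheme.Hom.comp_apply, ← Over.comp_left, lift_fst]; exact hA⟩
      let m : G ⊗ T ⟶ X := orb a x ≫ fst X T
      have hmV₀ : X.hom (m.left w) ∈ V₀ := by
        rw [← Scheme.Hom.comp_apply, Over.w m, ← Over.w (snd G T)]
        show (t₀ ≫ X.hom) ((snd G T).left w) ∈ V₀
        rw [show (snd G T).left w = pt from Subsingleton.elim (α := ↥(Spec (CommRingCat.of K))) _ _, hts]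
        exact hy
      obtain ⟨B, hBE, hB⟩ := Set.mem_iUnion₂.mp (hE ⟨hwV, hmV₀⟩)
      let P : Over S := Over.mk ((G ⊗ T).left.fromSpecResidueField w ≫ (G ⊗ T).hom)
      let j : P ⟶ G ⊗ T := Over.homMk ((G ⊗ T).left.fromSpecResidueField w) rfl
      have hjw : ∀ p, j.left p = w := Scheme.fromSpecResidueField_apply w
      have facG : Set.range (j ≫ fst G T).left ⊆ Set.range A.1.ι := by
        rintro _ ⟨p, rfl⟩
        rw [Scheme.Opens.range_ι]
        show (fst G T).left (j.left p) ∈ A.1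
        rw [hjw]; exact hwA
      have facX : Set.range (j ≫ m).left ⊆ Set.range B.1.ι := by
        rintro _ ⟨p, rfl⟩
        rw [Scheme.Opens.range_ι]
        show m.left (j.left p) ∈ B.1
        rw [hjw]; exact hB
      let g' : P ⟶ objG A.1 := Over.homMk (IsOpenImmersion.lift A.1.ι _ facG) (by
        show _ ≫ A.1.ι ≫ G.hom = _
        rw [IsOpenImmersion.lift_fac_assoc, Over.w (j ≫ fst G T)])
      let x' : P ⟶ objX B.1 := Over.homMk (IsOpenImmersion.lift B.1.ι _ facX) (by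
        show _ ≫ B.1.ι ≫ X.hom = _
        rw [IsOpenImmersion.lift_fac_assoc, Over.w (j ≫ m)])
      have hg' : g' ≫ incG A.1 = j ≫ fst G T := Over.OverMorphism.ext (IsOpenImmersion.lift_fac _ _ _)
      have hx' : x' ≫ incX B.1 = j ≫ m := Over.OverMorphism.ext (IsOpenImmersion.lift_fac _ _ _)
      refine Set.mem_biUnion hAF (Set.mem_biUnion hBE
        ⟨(lift g' x').left (IsLocalRing.closedPoint _), ?_⟩)
      rw [← Scheme.Hom.comp_apply, ← Over.comp_left]
      have e : lift g' x' ≫ back A.1 B.1 = j ≫ snd G T ≫ x := by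
        simp only [back]
        rw [← Category.assoc, comp_lift, GrpObj.comp_inv, lift_fst_assoc, lift_snd_assoc, hg', hx']
        simp only [m, orb, Category.assoc, lift_fst]
        rw [← Category.assoc j, comp_lift, Groth.AlgGrp2.lift_inv_act]
      rw [e]
      exact Scheme.fromSpecResidueField_apply y _
    · simp only [Set.mem_iUnion] at hy
      obtain ⟨A, -, B, -, z, rfl⟩ := hy
      show X.hom _ ∈ V₀
      rw [← Scheme.Hom.comp_apply, Over.w, ← Over.w (snd (objG A.1) (objX B.1)), Scheme.Hom.comp_apply]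
      exact B.2.2 ((snd (objG A.1) (objX B.1)).left z).2
  rw [heq]
  refine F.finite_toSet.isCompact_biUnion fun A _ ↦ E.finite_toSet.isCompact_biUnion fun B _ ↦ ?_
  haveI : CompactSpace (objG A.1 ⊗ objX B.1).left := by
    haveI : IsAffine A.1.toScheme := A.2.1
    haveI : IsAffine B.1.toScheme := B.2.1
    haveI : IsAffine V₀.toScheme := hV₀
    let eA : A.1.toScheme ⟶ V₀.toScheme := G.hom.resLE V₀ A.1 A.2.2
    let eB : B.1.toScheme ⟶ V₀.toScheme := X.hom.resLE V₀ B.1 B.2.2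
    have hA : eA ≫ V₀.ι = A.1.ι ≫ G.hom := Scheme.Hom.resLE_comp_ι _ _
    have hB : eB ≫ V₀.ι = B.1.ι ≫ X.hom := Scheme.Hom.resLE_comp_ι _ _
    let i : pullback eA eB ≅ pullback (A.1.ι ≫ G.hom) (B.1.ι ≫ X.hom) :=
      (IsPullback.of_isLimit (pullbackIsPullbackOfCompMono eA eB V₀.ι)).isoPullback ≪≫
        pullback.congrHom hA hB
    exact i.hom.homeomorph.compactSpace
  exact isCompact_range (Scheme.Hom.continuous _)

end Groth.GrpschSep
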